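import Groth.Agent.AlgSp.K595.RepDesc
import Mathlib.AlgebraicGeometry.Morphisms.QuasiFinite
import Mathlib.AlgebraicGeometry.Morphisms.UniversallyInjective
/-!
# The diagonal of an algebraic space

* `repWith_mono_of_mono` : representable + mono ⟹ `RepWith monomorphisms`.
* `mono_of_repWith_mono`
* `repWith_diag_lft`, `repWith_diag_mono`, `repWith_diag_isSeparated`, `repWith_diag_lqf`.
* the same for the relative diagonal of any morphism `X ⟶ Y` of sheaves with `X` an algebraic space:
  `repWith_diagonal_of_diag`.
-/

universe u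

open CategoryTheory CategoryTheory.Limits AlgebraicGeometry Opposite AlgSp

namespace K595.DiagAlg

variable {S : Scheme.{u}}

theorem mono_left {U V : Over S} (g : U ⟶ V) [Mono g] : Mono g.left := inferInstance

theorem repWith_mono_of_mono {X Y : Sp S} {f : X ⟶ Y} (hf : Representable f) [Mono f] :
    RepWith (MorphismProperty.monomorphisms Scheme.{u}) f := by
  refine ⟨hf, fun T V g fst snd sq => ?_⟩
  have h1 : Mono ((yon S).map snd) :=
    (MorphismProperty.monomorphisms (Sp S)).of_isPullback sq ‹Mono f›
  have h2 : Mono snd := (yon S).mono_of_mono_map h1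
  exact mono_left snd

/-- Two morphisms out of a sheaf agree if they agree on all sections. -/
theorem hom_ext_yon {X Y : Sp S} {a b : X ⟶ Y}
    (h : ∀ (T : Over S) (g : (yon S).obj T ⟶ X), g ≫ a = g ≫ b) : a = b := by
  apply ObjectProperty.hom_ext
  apply NatTrans.ext
  funext T
  induction T using Opposite.rec with
  | op T =>
  ext x
  have h1 := h T ((J S).uliftYonedaEquiv.symm x)
  have h2 := congrArg (J S).uliftYonedaEquiv h1
  rw [GrothendieckTopology.uliftYonedaEquiv_comp, GrothendieckTopology.uliftYonedaEquiv_comp,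
    Equiv.apply_symm_apply] at h2
  exact h2

theorem mono_of_repWith_mono {X Y : Sp S} {f : X ⟶ Y}
    (hf : RepWith (MorphismProperty.monomorphisms Scheme.{u}) f) : Mono f := by
  refine ⟨fun {Z} a b hab => hom_ext_yon fun T g => ?_⟩
  have hab' : (g ≫ a) ≫ f = (g ≫ b) ≫ f := by rw [Category.assoc, Category.assoc, hab]
  obtain ⟨V, s, fst, sq⟩ := hf.1 ((g ≫ a) ≫ f)
  have hm : Mono s.left := hf.2 _ _ _ sq
  have hs : Mono s := (Over.forget S).mono_of_mono_map hm
  have hs' : Mono ((yon S).map s) := by
    have : PreservesLimitsOfShape WalkingCospan (yon S) := inferInstance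
    infer_instance
  have e1 := sq.lift_fst (g ≫ a) (𝟙 _) (by simp)
  have e2 := sq.lift_fst (g ≫ b) (𝟙 _) (by simp [hab'])
  rw [← e1, ← e2]
  congr 1
  rw [← cancel_mono ((yon S).map s), sq.lift_snd, sq.lift_snd]

instance diag_mono (X : Sp S) : Mono (Limits.diag X) := inferInstance

set_option backward.isDefEq.respectTransparency false in
/-- The square `R ⟶ X`, `R ⟶ U × U` over `diag X` and `p × p`. -/
theorem isPullback_diag_prodMap {C : Type*} [Category* C] [HasBinaryProducts C] {R U X : C}
    {a b : R ⟶ U} {p : U ⟶ X} (sq : IsPullback a b p p) :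
    IsPullback (a ≫ p) (prod.lift a b) (Limits.diag X) (prod.map p p) := by
  refine ⟨⟨?_⟩, ⟨PullbackCone.IsLimit.mk _
    (fun s => sq.lift (s.snd ≫ prod.fst) (s.snd ≫ prod.snd) ?_) ?_ ?_ ?_⟩⟩
  · apply Limits.prod.hom_ext
    · simp
    · simp [sq.w]
  · have h1 := s.condition =≫ prod.fst
    have h2 := s.condition =≫ prod.snd
    simp only [Category.assoc, prod.lift_fst, prod.lift_snd, Category.comp_id, prod.map_fst,
      prod.map_snd, Limits.diag] at h1 h2
    simp only [Category.assoc]
    rw [← h1, ← h2]
  · intro s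
    have h1 := s.condition =≫ prod.fst
    simp only [Category.assoc, prod.lift_fst, Category.comp_id, prod.map_fst, Limits.diag] at h1
    simp [h1]
  · intro s
    apply Limits.prod.hom_ext
    · simp
    · simp
  · intro s m h1 h2
    apply sq.hom_ext
    · simp [← h2]
    · simp [← h2]

theorem diag_lift_left_lft {R U : Over S} (s t : R ⟶ U) (hs : LocallyOfFiniteType s.left) :
    LocallyOfFiniteType (prod.lift s t).left := by
  have h : (prod.lift s t).left ≫ (prod.fst : U ⨯ U ⟶ U).left = s.left := by
    rw [← Over.comp_left, prod.lift_fst]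
  have : LocallyOfFiniteType ((prod.lift s t).left ≫ (prod.fst : U ⨯ U ⟶ U).left) := by
    rw [h]; exact hs
  exact locallyOfFiniteType_of_comp _ (prod.fst : U ⨯ U ⟶ U).left

/-- General criterion: a property of the diagonal that descends along fppf covers can be tested on the
`R ⟶ U × U` of an atlas. -/
theorem repWith_diag_of {P : MorphismProperty Scheme.{u}} [P.IsStableUnderBaseChange]
    [P.DescendsAlong RepDesc.Fppf] {X : Sp S} (hX : Representable (Limits.diag X)) {U : Over S}
    {p : (yon S).obj U ⟶ X} (hp : RepWith RepDesc.Fppf p) {R : Over S} {s t : R ⟶ U}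
    (sq : IsPullback ((yon S).map s) ((yon S).map t) p p) (h : P (prod.lift s t).left) :
    RepWith P (Limits.diag X) := by
  have : P.RespectsIso := MorphismProperty.IsStableUnderBaseChange.respectsIso
  have hq : RepWith RepDesc.Fppf (prod.map p p) := RepDesc.repWith_prodMap hp hp
  refine RepDesc.repWith_of_isPullback (isPullback_diag_prodMap sq) hX hq ?_
  have e : prod.lift ((yon S).map s) ((yon S).map t) =
      (yon S).map (prod.lift s t) ≫ prodComparison (yon S) U U := by
    apply Limits.prod.hom_ext
    · rw [prod.lift_fst, Category.assoc, prodComparison_fst, ← Functor.map_comp, prod.lift_fst]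
    · rw [prod.lift_snd, Category.assoc, prodComparison_snd, ← Functor.map_comp, prod.lift_snd]
  rw [e]
  refine (MorphismProperty.cancel_right_of_respectsIso (RepWith P) _ _).2 ?_
  exact (repWith_yon_map_iff P _).2 h

theorem repWith_diag_lft {X : Sp S} (hX : IsAlgSpace X) :
    RepWith @LocallyOfFiniteType (Limits.diag X) := by
  obtain ⟨U, p, h1, h2⟩ := hX.atlas
  obtain ⟨R, t, s', sq⟩ := h1.1 p
  obtain ⟨s, rfl⟩ := (yon S).map_surjective s'
  have hs : Etale s.left := h1.2 p _ _ sq.flip
  refine repWith_diag_of hX.diag (RepDesc.repWith_fppf h1 h2) sq ?_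
  exact diag_lift_left_lft s t inferInstance

theorem repWith_diag_mono {X : Sp S} (hX : IsAlgSpace X) :
    RepWith (MorphismProperty.monomorphisms Scheme.{u}) (Limits.diag X) :=
  repWith_mono_of_mono hX.diag

/-- From mono and locally of finite type one gets separated and locally quasi-finite. -/
theorem repWith_isSeparated_of_mono {X Y : Sp S} {f : X ⟶ Y}
    (hf : RepWith (MorphismProperty.monomorphisms Scheme.{u}) f) : RepWith @IsSeparated f :=
  RepDesc.repWith_mono (fun _ _ g (hg : Mono g) => by
    have := hg
    change IsSeparated g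
    infer_instance) hf

theorem repWith_lqf_of_mono {X Y : Sp S} {f : X ⟶ Y}
    (hf : RepWith (MorphismProperty.monomorphisms Scheme.{u}) f)
    (hf' : RepWith @LocallyOfFiniteType f) :
    RepWith (@LocallyQuasiFinite ⊓ @LocallyOfFiniteType) f :=
  RepDesc.repWith_mono (P := MorphismProperty.monomorphisms Scheme.{u} ⊓ @LocallyOfFiniteType)
    (fun _ _ g hg => by
      have h1 : Mono g := hg.1
      have h2 : LocallyOfFiniteType g := hg.2
      exact ⟨LocallyQuasiFinite.of_injective g.injective, h2⟩) (RepDesc.repWith_and hf hf')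

end K595.DiagAlg
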