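import Groth.Agent.AlgSp.K595.DiagAlg
import Groth.Prelude.Def_AlgSp4
/-!
# Relative diagonals of morphisms from algebraic spaces, graphs and sections

* `repWith_diagonal_of_diag` : `RepWith P (diag X) → RepWith P (pullback.diagonal f)` for `f : X ⟶ Y`.
* `repWith_mapDesc` : `RepWith P (pullback.diagonal h) → RepWith P (pullback.mapDesc f g h)`.
* `repWith_section` : `s ≫ f = 𝟙`, `RepWith P (pullback.diagonal f) → RepWith P s`.
* stability of `IsSeparatedMor`, `IsQuasiSeparatedMor` under base change and composition.
-/

universe u

open CategoryTheory CategoryTheory.Limits AlgebraicGeometry Opposite AlgSp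

namespace K595.DiagRel

variable {S : Scheme.{u}}

section General

variable {C : Type*} [Category* C]

/-- The map `X ×_Y X ⟶ X ⨯ X`. -/
noncomputable abbrev toProd [HasPullbacks C] [HasBinaryProducts C] {X Y : C} (f : X ⟶ Y) :
    pullback f f ⟶ X ⨯ X := prod.lift (pullback.fst f f) (pullback.snd f f)

set_option backward.isDefEq.respectTransparency false in
instance toProd_mono [HasPullbacks C] [HasBinaryProducts C] {X Y : C} (f : X ⟶ Y) :
    Mono (toProd f) := by
  refine ⟨fun a b h => pullback.hom_ext ?_ ?_⟩
  · have := h =≫ prod.fst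
    simpa using this
  · have := h =≫ prod.snd
    simpa using this

set_option backward.isDefEq.respectTransparency false in
/-- The relative diagonal is a base change of the absolute one. -/
theorem isPullback_diagonal_diag [HasPullbacks C] [HasBinaryProducts C] {X Y : C} (f : X ⟶ Y) :
    IsPullback (𝟙 X) (pullback.diagonal f) (Limits.diag X) (toProd f) := by
  have hw : 𝟙 X ≫ Limits.diag X = pullback.diagonal f ≫ toProd f := by
    apply Limits.prod.hom_ext <;> simp [toProd]
  refine ⟨⟨hw⟩, ⟨PullbackCone.IsLimit.mk _ (fun s => s.fst) ?_ ?_ ?_⟩⟩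
  · intro s; simp
  · intro s
    rw [← cancel_mono (toProd f), Category.assoc, ← hw, Category.id_comp, s.condition]
  · intro s m h1 h2
    simpa using h1

/-- A section of `f` is a base change of the diagonal of `f`. -/
theorem isPullback_section [HasPullbacks C] {X T : C} (f : X ⟶ T) (s : T ⟶ X) (hs : s ≫ f = 𝟙 T) :
    IsPullback s s (pullback.diagonal f)
      (pullback.lift (f := f) (g := f) (𝟙 X) (f ≫ s) (by simp [hs])) := by
  have key : ∀ (W : C) (a b : W ⟶ X), a ≫ pullback.diagonal f =
      b ≫ pullback.lift (f := f) (g := f) (𝟙 X) (f ≫ s) (by simp [hs]) → a = b ∧ (a ≫ f) ≫ s = a := by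
    intro W a b h
    have h1 := h =≫ pullback.fst _ _
    have h2 := h =≫ pullback.snd _ _
    simp only [Category.assoc, pullback.diagonal_fst, pullback.diagonal_snd, Category.comp_id,
      pullback.lift_fst, pullback.lift_snd] at h1 h2
    refine ⟨h1, ?_⟩
    rw [Category.assoc]
    exact (congrArg (· ≫ f ≫ s) h1).trans h2.symm
  refine ⟨⟨?_⟩, ⟨PullbackCone.IsLimit.mk _ (fun c => c.fst ≫ f) (fun c => (key _ _ _ c.condition).2)
    (fun c => (key _ _ _ c.condition).2.trans (key _ _ _ c.condition).1) ?_⟩⟩
  · apply pullback.hom_ext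
    · rw [Category.assoc, Category.assoc, pullback.diagonal_fst]
      erw [pullback.lift_fst]
    · rw [Category.assoc, Category.assoc, pullback.diagonal_snd]
      erw [pullback.lift_snd]
      rw [reassoc_of% hs, Category.comp_id]
  · intro c m h1 h2
    have : m = (m ≫ s) ≫ f := by
      simp only [Category.assoc, hs, Category.comp_id]
    rw [this]
    exact congrArg (· ≫ f) h1

end General

theorem repWith_diagonal_of_diag {P : MorphismProperty Scheme.{u}} {X Y : Sp S} (f : X ⟶ Y)
    (h : RepWith P (Limits.diag X)) : RepWith P (pullback.diagonal f) :=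
  (RepWith P).of_isPullback (isPullback_diagonal_diag f) h

theorem representable_diagonal {X Y : Sp S} (hX : IsAlgSpace X) (f : X ⟶ Y) :
    Representable (pullback.diagonal f) :=
  Representable.of_isPullback (isPullback_diagonal_diag f) hX.diag

theorem repWith_diagonal_lft {X Y : Sp S} (hX : IsAlgSpace X) (f : X ⟶ Y) :
    RepWith @LocallyOfFiniteType (pullback.diagonal f) :=
  repWith_diagonal_of_diag f (DiagAlg.repWith_diag_lft hX)

theorem repWith_diagonal_mono {X Y : Sp S} (hX : IsAlgSpace X) (f : X ⟶ Y) :
    RepWith (MorphismProperty.monomorphisms Scheme.{u}) (pullback.diagonal f) :=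
  repWith_diagonal_of_diag f (DiagAlg.repWith_diag_mono hX)

theorem repWith_diagonal_isSeparated {X Y : Sp S} (hX : IsAlgSpace X) (f : X ⟶ Y) :
    RepWith @IsSeparated (pullback.diagonal f) :=
  DiagAlg.repWith_isSeparated_of_mono (repWith_diagonal_mono hX f)

theorem repWith_diagonal_lqf {X Y : Sp S} (hX : IsAlgSpace X) (f : X ⟶ Y) :
    RepWith (@LocallyQuasiFinite ⊓ @LocallyOfFiniteType) (pullback.diagonal f) :=
  DiagAlg.repWith_lqf_of_mono (repWith_diagonal_mono hX f) (repWith_diagonal_lft hX f)

/-- `X ×_Z Y ⟶ X ×_T Y` is a base change of the diagonal of `Z ⟶ T`. -/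
theorem repWith_mapDesc {P : MorphismProperty Scheme.{u}} {X Y Z T : Sp S} (f : X ⟶ Z) (g : Y ⟶ Z)
    (h : Z ⟶ T) (hh : RepWith P (pullback.diagonal h)) : RepWith P (pullback.mapDesc f g h) :=
  (RepWith P).of_isPullback (pullback_map_diagonal_isPullback f g h) hh

theorem representable_mapDesc {X Y Z T : Sp S} (f : X ⟶ Z) (g : Y ⟶ Z)
    (h : Z ⟶ T) (hh : Representable (pullback.diagonal h)) :
    Representable (pullback.mapDesc f g h) :=
  Representable.of_isPullback (pullback_map_diagonal_isPullback f g h) hh

theorem repWith_section {P : MorphismProperty Scheme.{u}} {X T : Sp S} (f : X ⟶ T) (s : T ⟶ X)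
    (hs : s ≫ f = 𝟙 T) (hh : RepWith P (pullback.diagonal f)) : RepWith P s :=
  (RepWith P).of_isPullback (isPullback_section f s hs) hh

theorem representable_section {X T : Sp S} (f : X ⟶ T) (s : T ⟶ X)
    (hs : s ≫ f = 𝟙 T) (hh : Representable (pullback.diagonal f)) : Representable s :=
  Representable.of_isPullback (isPullback_section f s hs) hh

instance repWith_diagonal_isStableUnderBaseChange (P : MorphismProperty Scheme.{u})
    [P.IsStableUnderBaseChange] : (RepWith (S := S) P).diagonal.IsStableUnderBaseChange := by
  have : (RepWith (S := S) P).RespectsIso := MorphismProperty.relative_respectsIso _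
  exact MorphismProperty.IsStableUnderBaseChange.diagonal

instance repWith_diagonal_isMultiplicative (P : MorphismProperty Scheme.{u})
    [P.IsStableUnderBaseChange] [P.IsMultiplicative] :
    (RepWith (S := S) P).diagonal.IsMultiplicative := by
  have : (RepWith (S := S) P).RespectsIso := MorphismProperty.relative_respectsIso _
  have : (RepWith (S := S) P).IsMultiplicative := repWith_isMultiplicative P
  infer_instance

theorem isSeparatedMor_eq :
    (IsSeparatedMor (S := S)) = (RepWith @IsClosedImmersion).diagonal := rfl

theorem isQuasiSeparatedMor_eq :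
    (IsQuasiSeparatedMor (S := S)) = (RepWith @QuasiCompact).diagonal := rfl

instance isSeparatedMor_isStableUnderBaseChange :
    (IsSeparatedMor (S := S)).IsStableUnderBaseChange :=
  repWith_diagonal_isStableUnderBaseChange @IsClosedImmersion

instance isQuasiSeparatedMor_isStableUnderBaseChange :
    (IsQuasiSeparatedMor (S := S)).IsStableUnderBaseChange :=
  repWith_diagonal_isStableUnderBaseChange @QuasiCompact

instance isSeparatedMor_isMultiplicative :
    (IsSeparatedMor (S := S)).IsMultiplicative :=
  repWith_diagonal_isMultiplicative @IsClosedImmersion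

instance isQuasiSeparatedMor_isMultiplicative :
    (IsQuasiSeparatedMor (S := S)).IsMultiplicative :=
  repWith_diagonal_isMultiplicative @QuasiCompact

end K595.DiagRel
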