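import Mathlib.CategoryTheory.MorphismProperty.Representable
import Mathlib.CategoryTheory.MorphismProperty.Limits
import Mathlib.CategoryTheory.Limits.Preserves.Shapes.Pullbacks
/-!
# Relative diagonals of relatively representable morphisms (generic category theory)
-/

open CategoryTheory CategoryTheory.Limits

namespace K595.RelRep

universe v₁ v₂ u₁ u₂

section General

variable {D : Type u₂} [Category.{v₂} D] [HasPullbacks D]

/-- The diagonal of a base change is the base change of the diagonal. -/
theorem isPullback_diagonal {X Y Z P : D} {f : X ⟶ Y} {h : Z ⟶ Y} {fst : P ⟶ X} {snd : P ⟶ Z}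
    (sq : IsPullback fst snd f h) :
    IsPullback fst (pullback.diagonal snd) (pullback.diagonal f)
      (pullback.map snd snd f f fst fst h sq.w.symm sq.w.symm) := by
  refine ⟨⟨?_⟩, ⟨PullbackCone.IsLimit.mk _ (fun s => s.snd ≫ pullback.fst _ _) ?_ ?_ ?_⟩⟩
  · apply pullback.hom_ext
    · simp only [Category.assoc, pullback.diagonal_fst, Category.comp_id, pullback.map]
      erw [pullback.lift_fst, pullback.diagonal_fst_assoc]
    · simp only [Category.assoc, pullback.diagonal_snd, Category.comp_id, pullback.map]
      erw [pullback.lift_snd, pullback.diagonal_snd_assoc]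
  · intro s
    have h1 := s.condition =≫ pullback.fst _ _
    simp only [Category.assoc, pullback.diagonal_fst, Category.comp_id, pullback.lift_fst,
      pullback.map] at h1
    simp [h1]
  · intro s
    have h1 := s.condition =≫ pullback.fst _ _
    have h2 := s.condition =≫ pullback.snd _ _
    simp only [Category.assoc, pullback.diagonal_fst, pullback.diagonal_snd, Category.comp_id,
      pullback.lift_fst, pullback.lift_snd, pullback.map] at h1 h2
    have key : s.snd ≫ pullback.fst _ _ = s.snd ≫ pullback.snd _ _ := by
      apply sq.hom_ext
      · simp only [Category.assoc]; rw [← h1, h2]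
      · simp only [Category.assoc]; rw [pullback.condition]
    apply pullback.hom_ext
    · simp
    · simp [key]
  · intro s m h1 h2
    rw [← h2]; simp

/-- The diagonal of `f` is the base change of the diagonal of `f ≫ m` when `m` is ... : general
cancellation square.  For `f : X ⟶ Y`, `m : Y ⟶ Z`, the square
`X ⟶ X ×_Y X ⟶ X ×_Z X` is cartesian over the identity. -/
theorem isPullback_diagonal_mapDesc {X Y Z : D} (f : X ⟶ Y) (m : Y ⟶ Z) :
    IsPullback (𝟙 X) (pullback.diagonal f) (pullback.diagonal (f ≫ m)) (pullback.mapDesc f f m) := by
  refine ⟨⟨?_⟩, ⟨PullbackCone.IsLimit.mk _ (fun s => s.fst) ?_ ?_ ?_⟩⟩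
  · apply pullback.hom_ext
    · simp only [Category.assoc, pullback.diagonal_fst, Category.comp_id, pullback.mapDesc, pullback.map]
      erw [pullback.lift_fst, pullback.diagonal_fst]
    · simp only [Category.assoc, pullback.diagonal_snd, Category.comp_id, pullback.mapDesc, pullback.map]
      erw [pullback.lift_snd, pullback.diagonal_snd]
  · intro s; simp
  · intro s
    have h1 := s.condition =≫ pullback.fst _ _
    have h2 := s.condition =≫ pullback.snd _ _
    simp only [Category.assoc, pullback.diagonal_fst, pullback.diagonal_snd, Category.comp_id,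
      pullback.lift_fst, pullback.lift_snd, pullback.map, pullback.mapDesc] at h1 h2
    apply pullback.hom_ext
    · simp [h1]
    · simp [h2]
  · intro s m h1 h2
    simpa using h1

end General

variable {C : Type u₁} [Category.{v₁} C] {D : Type u₂} [Category.{v₂} D] {F : C ⥤ D}

theorem diagonal_map [HasPullbacks C] [HasPullbacks D] [PreservesLimitsOfShape WalkingCospan F]
    {U V : C} (g : U ⟶ V) :
    pullback.diagonal (F.map g) = F.map (pullback.diagonal g) ≫ (PreservesPullback.iso F g g).hom := by
  apply pullback.hom_ext
  · simp only [pullback.diagonal_fst, Category.assoc, PreservesPullback.iso_hom_fst, ← Functor.map_comp]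
    exact (F.map_id U).symm
  · simp only [pullback.diagonal_snd, Category.assoc, PreservesPullback.iso_hom_snd, ← Functor.map_comp]
    exact (F.map_id U).symm

section

variable [F.Full] [F.Faithful] [HasPullbacks C] [HasPullbacks D]
  [PreservesLimitsOfShape WalkingCospan F]

/-- Given `a : X ⟶ Y` relatively representable and `g : F T ⟶ X ×_Y X`, there are a morphism
`s : V ⟶ T` in `C`, a pullback square of `a` along some `F T ⟶ Y` with vertex `F V`, and a
factorisation of `g` through `F (V ×_T V)`. -/
theorem exists_factor {X Y : D} {a : X ⟶ Y} (ha : F.relativelyRepresentable a) {T : C}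
    (g : F.obj T ⟶ pullback a a) :
    ∃ (V : C) (s : V ⟶ T) (fst : F.obj V ⟶ X)
      (sq : IsPullback fst (F.map s) a (g ≫ pullback.fst a a ≫ a))
      (g' : T ⟶ pullback s s), F.map g' ≫ (PreservesPullback.iso F s s).hom ≫
        pullback.map (F.map s) (F.map s) a a fst fst _ sq.w.symm sq.w.symm = g ∧
        g' ≫ pullback.fst s s ≫ s = 𝟙 T := by
  obtain ⟨V, s, fst, sq⟩ := ha (g ≫ pullback.fst a a ≫ a)
  obtain ⟨l1, hl1⟩ := F.map_surjective (sq.lift (g ≫ pullback.fst a a) (𝟙 _) (by simp))
  obtain ⟨l2, hl2⟩ := F.map_surjective (sq.lift (g ≫ pullback.snd a a) (𝟙 _)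
    (by simp [pullback.condition]))
  have h1 : l1 ≫ s = 𝟙 _ := F.map_injective (by rw [F.map_comp, hl1, sq.lift_snd, F.map_id])
  have h2 : l2 ≫ s = 𝟙 _ := F.map_injective (by rw [F.map_comp, hl2, sq.lift_snd, F.map_id])
  refine ⟨V, s, fst, sq, pullback.lift l1 l2 (by rw [h1, h2]), ?_, ?_⟩
  · apply pullback.hom_ext
    · simp only [Category.assoc, pullback.map, pullback.lift_fst,
        PreservesPullback.iso_hom_fst_assoc]
      rw [← F.map_comp_assoc, pullback.lift_fst, hl1, sq.lift_fst]
    · simp only [Category.assoc, pullback.map, pullback.lift_snd,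
        PreservesPullback.iso_hom_snd_assoc]
      rw [← F.map_comp_assoc, pullback.lift_snd, hl2, sq.lift_fst]
  · rw [pullback.lift_fst_assoc, h1]

/-- The relative diagonal of a relatively representable morphism is relatively representable. -/
theorem relativelyRepresentable_diagonal {X Y : D} {a : X ⟶ Y}
    (ha : F.relativelyRepresentable a) : F.relativelyRepresentable (pullback.diagonal a) := by
  intro T g
  obtain ⟨V, s, fst, sq, g', hg, -⟩ := exists_factor ha g
  have h1 : IsPullback (F.map (pullback.fst (pullback.diagonal s) g'))
      (F.map (pullback.snd (pullback.diagonal s) g')) (F.map (pullback.diagonal s)) (F.map g') :=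
    (IsPullback.of_hasPullback (pullback.diagonal s) g').map F
  have h2 : IsPullback (𝟙 _) (F.map (pullback.diagonal s)) (pullback.diagonal (F.map s))
      (PreservesPullback.iso F s s).hom :=
    IsPullback.of_horiz_isIso ⟨by rw [diagonal_map, Category.id_comp]⟩
  have h3 := (h1.paste_horiz h2).paste_horiz (isPullback_diagonal sq)
  rw [Category.assoc, Category.assoc, hg] at h3
  exact ⟨_, _, _, h3⟩

/-- For a relatively representable morphism `a`, the diagonal of `a` has `P` in the relative sense
if and only if `a` has `P.diagonal` in the relative sense. -/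
theorem relative_diagonal_iff (P : MorphismProperty C) [P.IsStableUnderBaseChange] {X Y : D}
    {a : X ⟶ Y} (ha : F.relativelyRepresentable a) :
    P.relative F (pullback.diagonal a) ↔ P.diagonal.relative F a := by
  have : P.RespectsIso := MorphismProperty.IsStableUnderBaseChange.respectsIso
  constructor
  · intro h
    refine ⟨ha, fun T V g fst snd sq => ?_⟩
    change P (pullback.diagonal snd)
    have h1 : P.relative F (pullback.diagonal (F.map snd)) := by
      have := MorphismProperty.relative_isStableUnderBaseChange (F := F) P
      exact this.of_isPullback (isPullback_diagonal sq) h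
    rw [diagonal_map] at h1
    have h2 : P.relative F (F.map (pullback.diagonal snd)) :=
      (MorphismProperty.cancel_right_of_respectsIso (P.relative F) _ _).1 h1
    exact MorphismProperty.of_relative_map h2
  · intro h
    refine MorphismProperty.relative.of_exists fun T g => ?_
    obtain ⟨V, s, fst, sq, g', hg, -⟩ := exists_factor ha g
    have h1 : IsPullback (F.map (pullback.fst (pullback.diagonal s) g'))
        (F.map (pullback.snd (pullback.diagonal s) g')) (F.map (pullback.diagonal s)) (F.map g') :=
      (IsPullback.of_hasPullback (pullback.diagonal s) g').map F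
    have h2 : IsPullback (𝟙 _) (F.map (pullback.diagonal s)) (pullback.diagonal (F.map s))
        (PreservesPullback.iso F s s).hom :=
      IsPullback.of_horiz_isIso ⟨by rw [diagonal_map, Category.id_comp]⟩
    have h3 := (h1.paste_horiz h2).paste_horiz (isPullback_diagonal sq)
    rw [Category.assoc, Category.assoc, hg] at h3
    refine ⟨_, _, _, h3, ?_⟩
    exact P.of_isPullback (IsPullback.of_hasPullback (pullback.diagonal s) g')
      (h.property _ _ _ sq)

end

end K595.RelRep
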