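import Groth.Prelude.Def_AlgSp3
import Groth.Agent.AlgSp.K595.RelRep
/-!
# Diagonals of morphisms of sheaves: basic calculus of separation conditions

* `repWith_diagonal_iff` : for `a` representable, `RepWith P (diagonal a) ↔ RepWith P.diagonal a`
* `RepWith` of relative diagonals under base change, composition, cancellation.
-/

universe u

open CategoryTheory CategoryTheory.Limits AlgebraicGeometry Opposite AlgSp

namespace K595.DiagBasic

variable {S : Scheme.{u}}

theorem inverseImage_forget_diagonal (P : MorphismProperty Scheme.{u}) [P.IsStableUnderBaseChange] :
    (P.inverseImage (Over.forget S)).diagonal = P.diagonal.inverseImage (Over.forget S) := by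
  have : P.RespectsIso := MorphismProperty.IsStableUnderBaseChange.respectsIso
  ext U V g
  change P ((Over.forget S).map (pullback.diagonal g)) ↔ P (pullback.diagonal ((Over.forget S).map g))
  rw [AlgSp.diagonal_forget_map]
  exact (P.cancel_right_of_respectsIso _ _).symm

/-- For a representable morphism of sheaves, the diagonal has `P` iff the morphism has
`P.diagonal`. -/
theorem repWith_diagonal_iff (P : MorphismProperty Scheme.{u}) [P.IsStableUnderBaseChange]
    {X Y : Sp S} {a : X ⟶ Y} (ha : Representable a) :
    RepWith P (pullback.diagonal a) ↔ RepWith P.diagonal a := by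
  refine (RelRep.relative_diagonal_iff (P.inverseImage (Over.forget S)) ha).trans ?_
  rw [inverseImage_forget_diagonal]

theorem representable_diagonal {X Y : Sp S} {a : X ⟶ Y} (ha : Representable a) :
    Representable (pullback.diagonal a) :=
  RelRep.relativelyRepresentable_diagonal ha

theorem isSeparatedMor_iff_repWith {X Y : Sp S} {a : X ⟶ Y} (ha : Representable a) :
    IsSeparatedMor a ↔ RepWith @IsSeparated a := by
  rw [show (@IsSeparated : MorphismProperty Scheme.{u}) =
    MorphismProperty.diagonal @IsClosedImmersion from IsSeparated.isSeparated_eq_diagonal_isClosedImmersion]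
  exact repWith_diagonal_iff _ ha

theorem isQuasiSeparatedMor_iff_repWith {X Y : Sp S} {a : X ⟶ Y} (ha : Representable a) :
    IsQuasiSeparatedMor a ↔ RepWith @QuasiSeparated a := by
  rw [show (@QuasiSeparated : MorphismProperty Scheme.{u}) =
    MorphismProperty.diagonal @QuasiCompact from quasiSeparated_eq_diagonal_is_quasiCompact]
  exact repWith_diagonal_iff _ ha

end K595.DiagBasic
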