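import Groth.Prelude.Def_AlgSp3
import Groth.Agent.AlgSp.K595.DiagBasic
import Mathlib.AlgebraicGeometry.Morphisms.LocalFlatDescent
import Mathlib.AlgebraicGeometry.Morphisms.FlatDescent
/-!
# Descent of `RepWith P` along covers, and products

* `repWith_of_isPullback` : for `f` representable whose base change along `q` with `RepWith Q q` has
  `RepWith P`, `P.DescendsAlong Q`, then `RepWith P f`.
* `repWith_and` : `RepWith P f → RepWith P' f → RepWith (P ⊓ P') f`.
* `repWith_prodMap`.
* `repWith_etaleCover` : `RepWith Etale q → RepWith Surjective q → RepWith (Surjective ⊓ Flat ⊓ LFP) q`.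
-/

universe u

open CategoryTheory CategoryTheory.Limits AlgebraicGeometry Opposite AlgSp

namespace K595.RepDesc

variable {S : Scheme.{u}}

theorem repWith_mono {P Q : MorphismProperty Scheme.{u}} (h : P ≤ Q) {X Y : Sp S} {f : X ⟶ Y}
    (hf : RepWith P f) : RepWith Q f :=
  ⟨hf.1, fun _ _ g fst snd sq => h _ (hf.2 g fst snd sq)⟩

theorem repWith_and {P Q : MorphismProperty Scheme.{u}} {X Y : Sp S} {f : X ⟶ Y}
    (hf : RepWith P f) (hf' : RepWith Q f) : RepWith (P ⊓ Q) f :=
  ⟨hf.1, fun _ _ g fst snd sq => ⟨hf.2 g fst snd sq, hf'.2 g fst snd sq⟩⟩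

/-- The class of fppf covers (single morphisms). -/
abbrev Fppf : MorphismProperty Scheme.{u} := @Surjective ⊓ @Flat ⊓ @LocallyOfFinitePresentation

set_option backward.isDefEq.respectTransparency.types false in
instance fppf_isStableUnderBaseChange : Fppf.{u}.IsStableUnderBaseChange := inferInstance

set_option backward.isDefEq.respectTransparency.types false in
instance fppf_isStableUnderComposition : Fppf.{u}.IsStableUnderComposition := inferInstance

set_option backward.isDefEq.respectTransparency.types false in
instance lft_descendsAlong_fppf :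
    MorphismProperty.DescendsAlong (C := Scheme.{u}) @LocallyOfFiniteType Fppf := inferInstance

set_option backward.isDefEq.respectTransparency.types false in
instance lfp_descendsAlong_fppf :
    MorphismProperty.DescendsAlong (C := Scheme.{u}) @LocallyOfFinitePresentation Fppf := inferInstance

set_option backward.isDefEq.respectTransparency.types false in
instance etale_descendsAlong_fppf :
    MorphismProperty.DescendsAlong (C := Scheme.{u}) @Etale Fppf := inferInstance

set_option backward.isDefEq.respectTransparency.types false in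
instance surjective_descendsAlong_fppf :
    MorphismProperty.DescendsAlong (C := Scheme.{u}) @Surjective Fppf := inferInstance

theorem etale_le_flat : (@Etale : MorphismProperty Scheme.{u}) ≤ @Flat := fun _ _ f hf => by
  have : Etale f := hf
  infer_instance

theorem etale_le_lfp : (@Etale : MorphismProperty Scheme.{u}) ≤ @LocallyOfFinitePresentation :=
  fun _ _ f hf => by
    have : Etale f := hf
    infer_instance

/-- An etale surjective representable map is an fppf cover. -/
theorem repWith_fppf {X Y : Sp S} {q : X ⟶ Y} (h1 : RepWith @Etale q) (h2 : RepWith @Surjective q) :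
    RepWith Fppf q :=
  repWith_and (repWith_and h2 (repWith_mono etale_le_flat h1)) (repWith_mono etale_le_lfp h1)

/-- `RepWith P` descends along representable maps with `Q` when `P` descends along `Q`. -/
theorem repWith_of_isPullback {P Q : MorphismProperty Scheme.{u}} [P.IsStableUnderBaseChange]
    [P.DescendsAlong Q] {F G F' G' : Sp S} {f : F ⟶ G} {q : G' ⟶ G} {fst : F' ⟶ F} {f' : F' ⟶ G'}
    (sq : IsPullback fst f' f q) (hf : Representable f) (hq : RepWith Q q) (hf' : RepWith P f') :
    RepWith P f := by
  refine ⟨hf, fun T V g fst₁ snd₁ sq₁ => ?_⟩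
  obtain ⟨T', t, g', sq₂⟩ := hq.1 g
  have hQ : Q t.left := hq.2 _ _ _ sq₂
  -- the pullback of `snd₁` along `t`
  let W := pullback snd₁ t
  have sq₃ : IsPullback ((yon S).map (pullback.fst snd₁ t)) ((yon S).map (pullback.snd snd₁ t))
    ((yon S).map snd₁) ((yon S).map t) := (IsPullback.of_hasPullback snd₁ t).map (yon S)
  have sq₄ : IsPullback ((yon S).map (pullback.fst snd₁ t) ≫ fst₁)
      ((yon S).map (pullback.snd snd₁ t)) f ((yon S).map t ≫ g) := sq₃.paste_horiz sq₁
  have hw : (yon S).map t ≫ g = g' ≫ q := sq₂.w.symm
  rw [hw] at sq₄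
  have sq₅ : IsPullback (sq.lift ((yon S).map (pullback.fst snd₁ t) ≫ fst₁)
      ((yon S).map (pullback.snd snd₁ t) ≫ g') (by simpa only [Category.assoc] using sq₄.w))
      ((yon S).map (pullback.snd snd₁ t)) f' g' := by
    refine IsPullback.of_right (t := sq) ?_ ?_
    · rw [sq.lift_fst]; exact sq₄
    · rw [sq.lift_snd]
  have hP : P (pullback.snd snd₁ t).left := hf'.2 _ _ _ sq₅
  have sq₆ := (IsPullback.of_hasPullback snd₁ t).map (Over.forget S)
  exact MorphismProperty.of_isPullback_of_descendsAlong (P := P) (Q := Q) sq₆.flip hQ hP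

set_option backward.isDefEq.respectTransparency false in
theorem isPullback_prodMap_snd {C : Type*} [Category* C] [HasBinaryProducts C] {A B X : C} (f : A ⟶ B) :
    IsPullback (prod.snd (X := X)) (prod.map (𝟙 X) f) f prod.snd := by
  refine ⟨⟨by simp⟩, ⟨PullbackCone.IsLimit.mk _ (fun s => prod.lift (s.snd ≫ prod.fst) s.fst) ?_ ?_ ?_⟩⟩
  · intro s; simp
  · intro s
    apply Limits.prod.hom_ext
    · simp
    · simp [s.condition]
  · intro s m h1 h2
    apply Limits.prod.hom_ext
    · simp [← h2]
    · simp [← h1]

theorem repWith_prodMap {P : MorphismProperty Scheme.{u}} [P.IsStableUnderBaseChange]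
    [P.IsStableUnderComposition] {A B A' B' : Sp S} {f : A ⟶ B} {g : A' ⟶ B'}
    (hf : RepWith P f) (hg : RepWith P g) : RepWith P (prod.map f g) := by
  have h1 : RepWith P (prod.map f (𝟙 A')) :=
    (RepWith P).of_isPullback (IsPullback.of_prod_fst_with_id f A') hf
  have h2 : RepWith P (prod.map (𝟙 B) g) :=
    (RepWith P).of_isPullback (isPullback_prodMap_snd g) hg
  have : prod.map f g = prod.map f (𝟙 A') ≫ prod.map (𝟙 B) g := by
    rw [prod.map_map, Category.comp_id, Category.id_comp]
  rw [this]
  have := MorphismProperty.relative_isStableUnderComposition (F := yon S) (P.inverseImage (Over.forget S))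
  exact MorphismProperty.comp_mem _ _ _ h1 h2

end K595.RepDesc
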