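import Groth.Agent.Desc.MorDescent
import Groth.Agent.Desc.ImmersionDescent
import Groth.Agent.AlgSp.K595.RepDesc
import Mathlib.AlgebraicGeometry.Morphisms.Smooth
import Mathlib.AlgebraicGeometry.Morphisms.UniversallyOpen
import Mathlib.AlgebraicGeometry.Morphisms.UniversallyClosed
/-!
# Properties of morphisms of schemes descending along fppf covers (`Surj ⊓ Flat ⊓ LFP`)

Theorems `K595.DescInst.<property>`; use them with `have := K595.DescInst.isClosedImmersion`.
-/

universe u

open CategoryTheory CategoryTheory.Limits AlgebraicGeometry Opposite AlgSp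

set_option backward.isDefEq.respectTransparency.types false

namespace K595.DescInst

open K595.RepDesc (Fppf)
open Groth.Agent.Desc.MorDescent Groth.Agent.Desc.ImmersionDescent

theorem of_fpqc (P : MorphismProperty Scheme.{u})
    [MorphismProperty.DescendsAlong P (@Surjective ⊓ @Flat ⊓ @QuasiCompact)]
    [IsZariskiLocalAtTarget P] : P.DescendsAlong Fppf := inferInstance

theorem quasiCompact : MorphismProperty.DescendsAlong (C := Scheme.{u}) @QuasiCompact Fppf := by
  have := descendsAlong_quasiCompact.{u}
  exact of_fpqc _

theorem quasiSeparated : MorphismProperty.DescendsAlong (C := Scheme.{u}) @QuasiSeparated Fppf := by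
  have := descendsAlong_quasiSeparated.{u}
  exact of_fpqc _

theorem isSeparated : MorphismProperty.DescendsAlong (C := Scheme.{u}) @IsSeparated Fppf := by
  have := descendsAlong_isSeparated.{u}
  exact of_fpqc _

theorem isProper : MorphismProperty.DescendsAlong (C := Scheme.{u}) @IsProper Fppf := by
  have := descendsAlong_isProper.{u}
  exact of_fpqc _

theorem isAffineHom : MorphismProperty.DescendsAlong (C := Scheme.{u}) @IsAffineHom Fppf := by
  have := descendsAlong_isAffineHom.{u}
  exact of_fpqc _

theorem isClosedImmersion : MorphismProperty.DescendsAlong (C := Scheme.{u}) @IsClosedImmersion Fppf := by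
  have := descendsAlong_isClosedImmersion.{u}
  exact of_fpqc _

theorem isIntegralHom : MorphismProperty.DescendsAlong (C := Scheme.{u}) @IsIntegralHom Fppf := by
  have := descendsAlong_isIntegralHom.{u}
  exact of_fpqc _

theorem isFinite : MorphismProperty.DescendsAlong (C := Scheme.{u}) @IsFinite Fppf := by
  have := descendsAlong_isFinite.{u}
  exact of_fpqc _

theorem isImmersion : MorphismProperty.DescendsAlong (C := Scheme.{u}) @IsImmersion Fppf :=
  descendsAlong_isImmersion_fppf

theorem isOpenImmersion : MorphismProperty.DescendsAlong (C := Scheme.{u}) @IsOpenImmersion Fppf :=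
  of_fpqc _

theorem isomorphisms : (MorphismProperty.isomorphisms Scheme.{u}).DescendsAlong Fppf := of_fpqc _

theorem monomorphisms : (MorphismProperty.monomorphisms Scheme.{u}).DescendsAlong Fppf := by
  have := isomorphisms.{u}
  rw [← MorphismProperty.diagonal_isomorphisms]
  infer_instance

theorem universallyClosed :
    MorphismProperty.DescendsAlong (C := Scheme.{u}) @UniversallyClosed Fppf := of_fpqc _

theorem universallyOpen :
    MorphismProperty.DescendsAlong (C := Scheme.{u}) @UniversallyOpen Fppf := of_fpqc _

theorem universallyInjective :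
    MorphismProperty.DescendsAlong (C := Scheme.{u}) @UniversallyInjective Fppf := of_fpqc _

theorem smooth : MorphismProperty.DescendsAlong (C := Scheme.{u}) @Smooth Fppf := of_fpqc _

theorem formallyUnramified :
    MorphismProperty.DescendsAlong (C := Scheme.{u}) @FormallyUnramified Fppf := of_fpqc _

/-- Flatness codescends along faithfully flat ring maps. -/
theorem flat_codescends : RingHom.CodescendsAlong.{u} RingHom.Flat RingHom.FaithfullyFlat := by
  refine RingHom.CodescendsAlong.mk _ RingHom.Flat.respectsIso fun R S T _ _ _ _ _ h h' ↦ ?_
  rw [RingHom.flat_algebraMap_iff] at h' ⊢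
  rw [RingHom.faithfullyFlat_algebraMap_iff] at h
  exact Module.Flat.of_flat_tensorProduct R T S

theorem flat : MorphismProperty.DescendsAlong (C := Scheme.{u}) @Flat Fppf := by
  have : MorphismProperty.DescendsAlong @Flat
    (@Surjective ⊓ @Flat ⊓ @QuasiCompact : MorphismProperty Scheme.{u}) :=
    HasRingHomProperty.descendsAlong_flat flat_codescends
  exact of_fpqc _

end K595.DescInst
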