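import Groth.Prelude.Def_AlgSp
/-!
# Pullback squares of fppf sheaves in terms of sections
-/

universe u

open CategoryTheory CategoryTheory.Limits AlgebraicGeometry Opposite AlgSp

namespace K595.Sections

variable {S : Scheme.{u}} {P X Y Z : Sp S}

/-- Criterion for a square of sheaves to be cartesian in terms of sections. -/
theorem isPullback_of_sections {fst : P ⟶ X} {snd : P ⟶ Y} {f : X ⟶ Z} {g : Y ⟶ Z}
    (w : fst ≫ f = snd ≫ g)
    (inj : ∀ (T : Over S) (p q : P.obj.obj (op T)), fst.hom.app _ p = fst.hom.app _ q →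
      snd.hom.app _ p = snd.hom.app _ q → p = q)
    (surj : ∀ (T : Over S) (x : X.obj.obj (op T)) (y : Y.obj.obj (op T)),
      f.hom.app _ x = g.hom.app _ y → ∃ p : P.obj.obj (op T),
        fst.hom.app _ p = x ∧ snd.hom.app _ p = y) : IsPullback fst snd f g := by
  have h : IsPullback fst.hom snd.hom f.hom g.hom := by
    refine IsPullback.of_forall_isPullback_app fun T => ?_
    rw [Types.isPullback_iff]
    refine ⟨?_, fun p q h => inj T.unop p q h.1 h.2, fun x y h => surj T.unop x y h⟩
    exact NatTrans.congr_app (congrArg (·.hom) w) T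
  exact IsPullback.of_map_of_faithful (sheafToPresheaf (J S) (Type (u + 1))) h

theorem isPullback_app {fst : P ⟶ X} {snd : P ⟶ Y} {f : X ⟶ Z} {g : Y ⟶ Z}
    (sq : IsPullback fst snd f g) (T : Over S) :
    IsPullback (fst.hom.app (op T)) (snd.hom.app (op T)) (f.hom.app (op T)) (g.hom.app (op T)) :=
  (sq.map (sheafToPresheaf (J S) (Type (u + 1)))).map ((evaluation _ _).obj (op T))

theorem exists_section {fst : P ⟶ X} {snd : P ⟶ Y} {f : X ⟶ Z} {g : Y ⟶ Z}
    (sq : IsPullback fst snd f g) {T : Over S} (x : X.obj.obj (op T)) (y : Y.obj.obj (op T))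
    (h : f.hom.app _ x = g.hom.app _ y) : ∃ p : P.obj.obj (op T),
        fst.hom.app _ p = x ∧ snd.hom.app _ p = y :=
  Types.exists_of_isPullback (isPullback_app sq T) x y h

theorem section_ext {fst : P ⟶ X} {snd : P ⟶ Y} {f : X ⟶ Z} {g : Y ⟶ Z}
    (sq : IsPullback fst snd f g) {T : Over S} {p q : P.obj.obj (op T)}
    (h : fst.hom.app _ p = fst.hom.app _ q) (h' : snd.hom.app _ p = snd.hom.app _ q) : p = q :=
  Types.ext_of_isPullback (isPullback_app sq T) h h'

end K595.Sections
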