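import Groth.Agent.AlgSp.K595.SliceEquiv
import Groth.Agent.AlgSp.K595.Sections
import Mathlib.CategoryTheory.Limits.Constructions.Over.Connected
import Mathlib.CategoryTheory.Sites.Pullback
/-!
# Change of base for fppf sheaves and algebraic spaces

`L g : Sp S ⥤ Sp S'` (`j_!`) and `R g : Sp S' ⥤ Sp S` (`j⁻¹`) for `g : S ⟶ S'`.
-/

universe u

open CategoryTheory CategoryTheory.Limits AlgebraicGeometry Opposite AlgSp

namespace K595.ChBase

variable {S S' : Scheme.{u}} (g : S ⟶ S')

/-- `j_!`. -/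
abbrev L : Sp S ⥤ Sp S' := Slice.extSh.{u + 1} g Scheme.fppfTopology

/-- `j⁻¹`. -/
abbrev R : Sp S' ⥤ Sp S := Scheme.fppfTopology.overMapPullback (Type (u + 1)) g

/-- The adjunction. -/
abbrev adj : L g ⊣ R g := Slice.adj.{u + 1} g Scheme.fppfTopology

/-- `j_!` agrees with Mathlib's chosen left adjoint. -/
noncomputable def sheafPullbackIso [((Over.map g).sheafPushforwardContinuous (Type (u + 1))
      (J S) (J S')).IsRightAdjoint] :
    (Over.map g).sheafPullback (Type (u + 1)) (J S) (J S') ≅ L g :=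
  Adjunction.leftAdjointUniq
    (Functor.sheafAdjunctionContinuous (Over.map g) (Type (u + 1)) (J S) (J S')) (adj g)

variable {g}

/-- The unit `F ⟶ j⁻¹ j_! F`. -/
def unitHom (F : Sp S) : F ⟶ (R g).obj ((L g).obj F) := ObjectProperty.homMk (Slice.unitP.{u + 1} F.obj)

/-- The unit square is cartesian. -/
theorem isPullback_unit {F G : Sp S} (f : F ⟶ G) :
    IsPullback (unitHom (g := g) F) f ((R g).map ((L g).map f)) (unitHom G) := by
  refine Sections.isPullback_of_sections ?_ ?_ ?_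
  · apply ObjectProperty.hom_ext
    apply NatTrans.ext
    funext T
    refine ConcreteCategory.hom_ext _ _ fun x => ?_
    exact Slice.extMap_unitP.{u + 1} (g := g) f.hom (T := T.unop) x
  · intro T p q h _
    exact Slice.unitP_inj.{u + 1} (g := g) F.obj h
  · intro T x y h
    have h' : (Slice.extMap.{u + 1} f.hom).app (op ((Over.map g).obj T)) x =
      (Slice.unitP.{u + 1} (g := g) G.obj).app (op T) y := h
    have hfs : Slice.fs.{u + 1} (g := g) (F := F.obj) x = Slice.can g T := by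
      have := congrArg (Slice.fs.{u + 1} (g := g)) h'
      exact this
    obtain ⟨z, hz⟩ := Slice.exists_unitP.{u + 1} F.obj x hfs
    refine ⟨z, hz, ?_⟩
    apply Slice.unitP_inj.{u + 1} (g := g)
    rw [← Slice.extMap_unitP, ← h']
    exact congrArg _ hz

/-- `j_!` sends cartesian squares to cartesian squares. -/
theorem isPullback_L {P X Y Z : Sp S} {fst : P ⟶ X} {snd : P ⟶ Y} {f : X ⟶ Z} {h : Y ⟶ Z}
    (sq : IsPullback fst snd f h) :
    IsPullback ((L g).map fst) ((L g).map snd) ((L g).map f) ((L g).map h) := by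
  have : PreservesLimitsOfShape WalkingCospan (Slice.toOver.{u + 1} g Scheme.fppfTopology ⋙
    Over.forget _) := inferInstance
  exact sq.map (Slice.toOver.{u + 1} g Scheme.fppfTopology ⋙ Over.forget _)

/-- The section of `j_! h_T` over `g_! T` given by the identity. -/
def yonHom (T : Over S) : (yon S').obj ((Over.map g).obj T) ⟶ (L g).obj ((yon S).obj T) :=
  (J S').uliftYonedaEquiv.symm ((Slice.unitP.{u + 1} (g := g) ((yon S).obj T).obj).app (op T) ⟨𝟙 T⟩)

theorem yonHom_app (T : Over S) {T' : Over S'} (a : T' ⟶ (Over.map g).obj T) :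
    (yonHom (g := g) T).hom.app (op T') ⟨a⟩ =
      (Slice.ext.{u + 1} g ((yon S).obj T).obj).map a.op
        ((Slice.unitP.{u + 1} (g := g) ((yon S).obj T).obj).app (op T) ⟨𝟙 T⟩) := rfl

/-- The section attached to `a : T' ⟶ g_! T`. -/
theorem yonHom_app_eq (T : Over S) {T' : Over S'} (a : T' ⟶ (Over.map g).obj T) :
    (yonHom (g := g) T).hom.app (op T') ⟨a⟩ =
      Slice.sec.{u + 1} (F := ((yon S).obj T).obj) (a ≫ Slice.can g T)
        (⟨Slice.slMap a rfl ≫ (Slice.slCan T).hom ≫ 𝟙 T⟩) := rfl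

theorem yonHom_bijective (T : Over S) (T' : Over S') :
    Function.Bijective ((yonHom (g := g) T).hom.app (op T')) := by
  constructor
  · rintro ⟨a : T' ⟶ (Over.map g).obj T⟩ ⟨b : T' ⟶ (Over.map g).obj T⟩ h
    rw [yonHom_app_eq, yonHom_app_eq] at h
    apply ULift.ext
    apply Over.OverMorphism.ext
    let c : Slice.sl (g := g) (a ≫ Slice.can g T) ⟶ Slice.sl (b ≫ Slice.can g T) :=
      Over.homMk (𝟙 _) (by
        have h0 : a ≫ Slice.can g T = b ≫ Slice.can g T := congrArg (Slice.fs.{u + 1} (g := g)) h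
        rw [h0]
        simp)
    have h1 := Slice.sn_congr.{u + 1} h (𝟙 _) c (by simp [c])
    have h2 := congrArg (fun t => t.down.left) h1
    change (𝟙 _ ≫ Slice.slMap a rfl ≫ (Slice.slCan T).hom ≫ 𝟙 T).left =
      (c ≫ Slice.slMap b rfl ≫ (Slice.slCan T).hom ≫ 𝟙 T).left at h2
    simpa [c] using h2
  · intro p
    obtain ⟨φ, ⟨x⟩, rfl⟩ : ∃ (φ : T' ⟶ Over.mk g) (x : ((yon S).obj T).obj.obj (op (Slice.sl φ))),
      p = Slice.sec.{u + 1} φ x := ⟨_, _, rfl⟩
    refine ⟨⟨(Slice.slIso φ).inv ≫ (Over.map g).map x⟩, ?_⟩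
    rw [yonHom_app_eq]
    refine Slice.sec_sec_ext.{u + 1} ?_ fun c hc => ?_
    · ext
      simp
    · apply ULift.ext
      apply Over.OverMorphism.ext
      change (c ≫ Slice.slMap ((Slice.slIso φ).inv ≫ (Over.map g).map x) rfl ≫ (Slice.slCan T).hom ≫ 𝟙 T).left = x.left
      simp [hc]

theorem equiv_yonHom (T : Over S) : (J S').uliftYonedaEquiv (yonHom (g := g) T) =
    (Slice.unitP.{u + 1} (g := g) ((yon S).obj T).obj).app (op T) ⟨𝟙 T⟩ :=
  Equiv.apply_symm_apply _ _

instance yonHom_isIso (T : Over S) : IsIso (yonHom (g := g) T) := by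
  have h1 : IsIso (yonHom (g := g) T).hom := by
    rw [NatTrans.isIso_iff_isIso_app]
    intro T'
    rw [isIso_iff_bijective]
    exact yonHom_bijective T T'.unop
  have h2 : IsIso ((sheafToPresheaf (J S') (Type (u + 1))).map (yonHom (g := g) T)) := h1
  exact isIso_of_reflects_iso _ (sheafToPresheaf (J S') (Type (u + 1)))

/-- `h_{g_! T} ≅ j_! h_T`. -/
noncomputable def yonIso (T : Over S) :
    (yon S').obj ((Over.map g).obj T) ≅ (L g).obj ((yon S).obj T) := asIso (yonHom T)

theorem yonHom_naturality {V T : Over S} (s : V ⟶ T) :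
    (yon S').map ((Over.map g).map s) ≫ yonHom (g := g) T = yonHom V ≫ (L g).map ((yon S).map s) := by
  apply (J S').uliftYonedaEquiv.injective
  rw [GrothendieckTopology.uliftYonedaEquiv_comp, GrothendieckTopology.uliftYonedaEquiv_comp,
    GrothendieckTopology.uliftYonedaEquiv_uliftYoneda_map, equiv_yonHom]
  refine Eq.trans ?_ (Slice.extMap_unitP.{u + 1} (g := g) ((yon S).map s).hom
    (⟨𝟙 V⟩ : ULift (V ⟶ V))).symm
  refine (yonHom_app T _).trans ?_
  have h1 := NatTrans.naturality_apply (Slice.unitP.{u + 1} (g := g) ((yon S).obj T).obj) s.op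
    (⟨𝟙 T⟩ : ULift (T ⟶ T))
  refine h1.symm.trans ?_
  congr 1

/-- The map `h_T ⟶ F` attached to a section. -/
def homOf {F : Sp S} {T : Over S} (a : F.obj.obj (op T)) : (yon S).obj T ⟶ F :=
  (J S).uliftYonedaEquiv.symm a

theorem homOf_app {F : Sp S} {T : Over S} (a : F.obj.obj (op T)) :
    (homOf a).hom.app (op T) (⟨𝟙 T⟩ : ULift (T ⟶ T)) = a := by
  have h2 : (J S).uliftYonedaEquiv (homOf a) = a := Equiv.apply_symm_apply _ _
  rw [GrothendieckTopology.uliftYonedaEquiv_apply] at h2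
  exact h2

/-- Every map `h_{T'} ⟶ j_! F` comes from a map `h_T ⟶ F` over `S`. -/
theorem exists_lift {F : Sp S} {T' : Over S'} (y : (yon S').obj T' ⟶ (L g).obj F) :
    ∃ (T : Over S) (e : (Over.map g).obj T ≅ T') (x : (yon S).obj T ⟶ F),
      (yon S').map e.hom ≫ y = yonHom T ≫ (L g).map x := by
  obtain ⟨φ, a, h⟩ : ∃ (φ : T' ⟶ Over.mk g) (a : F.obj.obj (op (Slice.sl φ))),
    (J S').uliftYonedaEquiv y = Slice.sec.{u + 1} φ a := ⟨_, _, rfl⟩
  refine ⟨Slice.sl φ, Slice.slIso φ, homOf a, ?_⟩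
  apply (J S').uliftYonedaEquiv.injective
  rw [← GrothendieckTopology.uliftYonedaEquiv_naturality, h,
    GrothendieckTopology.uliftYonedaEquiv_comp, equiv_yonHom]
  refine (Slice.ext_map_slIso.{u + 1} F.obj φ a).trans ?_
  refine Eq.trans ?_ (Slice.extMap_unitP.{u + 1} (g := g) (homOf a).hom
    (⟨𝟙 _⟩ : ULift (Slice.sl φ ⟶ Slice.sl φ))).symm
  exact congrArg (fun t => (Slice.unitP.{u + 1} (g := g) F.obj).app (op (Slice.sl φ)) t)
    (homOf_app a).symm

theorem exists_isPullback_L {F G : Sp S} {f : F ⟶ G} (hf : Representable f) {T' : Over S'}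
    (y : (yon S').obj T' ⟶ (L g).obj G) :
    ∃ (T V : Over S) (x : (yon S).obj T ⟶ G) (s : V ⟶ T) (fst : (yon S).obj V ⟶ F)
      (_ : IsPullback fst ((yon S).map s) f x) (e : (Over.map g).obj T ≅ T'),
      IsPullback (yonHom V ≫ (L g).map fst)
        ((yon S').map ((Over.map g).map s ≫ e.hom)) ((L g).map f) y := by
  obtain ⟨T, e, x, h1⟩ := exists_lift y
  obtain ⟨V, s, fst, sq⟩ := hf x
  refine ⟨T, V, x, s, fst, sq, e, ?_⟩
  have sq1 := isPullback_L (g := g) sq
  have sq2 : IsPullback (yonHom (g := g) V) ((yon S').map ((Over.map g).map s))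
      ((L g).map ((yon S).map s)) (yonHom T) :=
    IsPullback.of_horiz_isIso ⟨(yonHom_naturality s).symm⟩
  have sq3 := sq2.paste_horiz sq1
  rw [← h1] at sq3
  have sq4 : IsPullback (𝟙 _) ((yon S').map ((Over.map g).map s ≫ e.hom))
      ((yon S').map ((Over.map g).map s)) ((yon S').map e.inv) :=
    IsPullback.of_horiz_isIso ⟨by
      rw [← Functor.map_comp, Category.assoc, e.hom_inv_id, Category.comp_id, Category.id_comp]⟩
  have sq5 := sq4.paste_horiz sq3
  rw [Category.id_comp, ← Category.assoc, ← Functor.map_comp, e.inv_hom_id,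
    CategoryTheory.Functor.map_id, Category.id_comp] at sq5
  exact sq5

theorem representable_L {F G : Sp S} {f : F ⟶ G} (hf : Representable f) :
    Representable ((L g).map f) := by
  intro T' y
  obtain ⟨T, V, x, s, fst, sq, e, sq'⟩ := exists_isPullback_L (g := g) hf y
  exact ⟨_, _, _, sq'⟩

theorem repWith_L {P : MorphismProperty Scheme.{u}} [P.RespectsIso] {F G : Sp S} {f : F ⟶ G}
    (hf : RepWith P f) : RepWith P ((L g).map f) := by
  have : (P.inverseImage (Over.forget S')).RespectsIso :=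
    MorphismProperty.RespectsIso.inverseImage P _
  refine MorphismProperty.relative.of_exists fun T' y => ?_
  obtain ⟨T, V, x, s, fst, sq, e, sq'⟩ := exists_isPullback_L (g := g) hf.1 y
  refine ⟨_, _, _, sq', ?_⟩
  change P (((Over.map g).map s ≫ e.hom).left)
  have h1 : P s.left := hf.2 _ _ _ sq
  have h2 : IsIso e.hom.left := inferInstanceAs (IsIso ((Over.forget S').map e.hom))
  have h3 : ((Over.map g).map s ≫ e.hom).left = s.left ≫ e.hom.left := rfl
  rw [h3]
  exact (P.cancel_right_of_respectsIso _ _).2 h1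

end K595.ChBase
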