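import Groth.Agent.AlgSp.K595.ChBaseR
import Mathlib.CategoryTheory.Comma.Over.Pullback
/-!
# Change of base for fppf sheaves and algebraic spaces, III: algebraic spaces
-/

universe u

open CategoryTheory CategoryTheory.Limits AlgebraicGeometry Opposite AlgSp

namespace K595.ChBase

section

variable {S : Scheme.{u}}

theorem homOf_inj {F : Sp S} {T : Over S} {a b : F.obj.obj (op T)} (h : homOf a = homOf b) :
    a = b := by
  rw [← homOf_app a, ← homOf_app b, h]

end

instance etale_respectsIso : MorphismProperty.RespectsIso (@Etale.{u}) :=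
  MorphismProperty.IsStableUnderBaseChange.respectsIso

variable {S S' : Scheme.{u}} {g : S ⟶ S'}

/-- `j⁻¹ h_{X'}` is represented by `X' ×_{S'} S`. -/
noncomputable def repR (X' : Over S') :
    ((R g).obj ((yon S').obj X')).obj.RepresentableBy (Over.mk (pullback.snd X'.hom g)) where
  homEquiv {T} := ((Over.mapPullbackAdj g).homEquiv T X').symm.trans Equiv.ulift.symm
  homEquiv_comp {T T'} f k := by
    apply ULift.ext
    exact (Over.mapPullbackAdj g).homEquiv_naturality_left_symm f k

/-- `h_{X' ×_{S'} S} ≅ j⁻¹ h_{X'}`. -/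
noncomputable def yonIsoR (X' : Over S') :
    (yon S).obj (Over.mk (pullback.snd X'.hom g)) ≅ (R g).obj ((yon S').obj X') :=
  isoOfRepresentableBy (repR X')

/-- `j_! h_X` is represented by `X`. -/
noncomputable def repL (X : Over S) :
    ((L g).obj ((yon S).obj X)).obj.RepresentableBy ((Over.map g).obj X) :=
  representableByOfIso (yonIso X)

theorem representable_to_R_yon {T : Over S} {X' : Over S'}
    (m : (yon S).obj T ⟶ (R g).obj ((yon S').obj X')) : Representable m := by
  have h : Representable (m ≫ (yonIsoR X').inv) := representable_of_yon _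
  have h2 : m = (m ≫ (yonIsoR X').inv) ≫ (yonIsoR X').hom := by simp
  rw [h2]
  exact MorphismProperty.RespectsIso.postcomp _ _ _ h

theorem representable_to_L_yon {T' : Over S'} {X : Over S}
    (m : (yon S').obj T' ⟶ (L g).obj ((yon S).obj X)) : Representable m := by
  have h : Representable (m ≫ (yonIso X).inv) := representable_of_yon _
  have h2 : m = (m ≫ (yonIso X).inv) ≫ (yonIso X).hom := by simp
  rw [h2]
  exact MorphismProperty.RespectsIso.postcomp _ _ _ h

/-- The restriction of an algebraic space to a scheme over the base is an algebraic space. -/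
theorem isAlgSpace_R {F' : Sp S'} (hF : IsAlgSpace F') : IsAlgSpace ((R g).obj F') where
  diag := by
    refine Functor.relativelyRepresentable.diag_of_map_from_obj fun T x => ?_
    let a : F'.obj.obj (op ((Over.map g).obj T)) := x.hom.app (op T) (⟨𝟙 T⟩ : ULift (T ⟶ T))
    let m : (yon S).obj T ⟶ (R g).obj ((yon S').obj ((Over.map g).obj T)) :=
      homOf (F := (R g).obj ((yon S').obj ((Over.map g).obj T)))
        (⟨𝟙 _⟩ : ULift ((Over.map g).obj T ⟶ (Over.map g).obj T))
    have h : x = m ≫ (R g).map (homOf a) := by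
      refine (eq_homOf x).trans (Eq.trans ?_ (homOf_comp _ _).symm)
      exact congrArg (homOf (F := (R g).obj F')) (homOf_app a).symm
    rw [h]
    have h1 : Representable ((R g).map (homOf a)) :=
      representable_R (hF.representable_from_yon _)
    exact MorphismProperty.comp_mem _ _ _ (representable_to_R_yon m) h1
  atlas := by
    obtain ⟨U, p, h1, h2⟩ := hF.atlas
    exact ⟨_, (yonIsoR U).hom ≫ (R g).map p,
      MorphismProperty.RespectsIso.precomp _ _ _ (repWith_R h1),
      MorphismProperty.RespectsIso.precomp _ _ _ (repWith_R h2)⟩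

/-- Extension of the base for algebraic spaces. -/
theorem isAlgSpace_L {F : Sp S} (hF : IsAlgSpace F) : IsAlgSpace ((L g).obj F) where
  diag := by
    refine Functor.relativelyRepresentable.diag_of_map_from_obj fun T' y => ?_
    obtain ⟨T, e, x, h⟩ := exists_lift y
    have h1 : Representable ((yon S').map e.hom ≫ y) := by
      rw [h]
      exact MorphismProperty.RespectsIso.precomp _ _ _ (representable_L (hF.representable_from_yon _))
    exact ((Representable (S := S')).cancel_left_of_respectsIso _ _).1 h1
  atlas := by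
    obtain ⟨U, p, h1, h2⟩ := hF.atlas
    exact ⟨_, (yonIso U).hom ≫ (L g).map p,
      MorphismProperty.RespectsIso.precomp _ _ _ (repWith_L h1),
      MorphismProperty.RespectsIso.precomp _ _ _ (repWith_L h2)⟩

/-- An fppf sheaf over `S` is an algebraic space if its extension is. -/
theorem isAlgSpace_of_L {F : Sp S} (hF : IsAlgSpace ((L g).obj F)) : IsAlgSpace F where
  diag := by
    refine Functor.relativelyRepresentable.diag_of_map_from_obj fun T x => ?_
    refine (representable_L_iff (g := g) x).1 ?_
    have h1 : Representable (yonHom (g := g) T ≫ (L g).map x) := hF.representable_from_yon _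
    exact ((Representable (S := S')).cancel_left_of_respectsIso _ _).1 h1
  atlas := by
    obtain ⟨U, p, h1, h2⟩ := hF.atlas
    obtain ⟨T, e, x, h⟩ := exists_lift p
    have key : ∀ (P : MorphismProperty Scheme.{u}) [P.RespectsIso], RepWith P p → RepWith P x := by
      intro P _ hp
      have : (P.inverseImage (Over.forget S')).RespectsIso :=
        MorphismProperty.RespectsIso.inverseImage P _
      rw [← repWith_L_iff (g := g)]
      have h3 : RepWith P (yonHom (g := g) T ≫ (L g).map x) := by
        rw [← h]
        exact MorphismProperty.RespectsIso.precomp _ _ _ hp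
      exact ((RepWith (S := S') P).cancel_left_of_respectsIso _ _).1 h3
    exact ⟨T, x, key _ h1, key _ h2⟩

theorem isAlgSpace_L_iff {F : Sp S} : IsAlgSpace ((L g).obj F) ↔ IsAlgSpace F :=
  ⟨isAlgSpace_of_L, isAlgSpace_L⟩

theorem counit_sec (F' : Sp S') {T : Over S'} (φ : T ⟶ Over.mk g)
    (a : F'.obj.obj (op ((Over.map g).obj (Slice.sl φ)))) :
    ((adj g).counit.app F').hom.app (op T) (Slice.sec.{u + 1} (F := ((R g).obj F').obj) φ a) =
      F'.obj.map (Slice.slIso φ).inv.op a := by
  rfl

/-- The structure map `j_! F ⟶ h_S`. -/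
def projHom (F : Sp S) : (L g).obj F ⟶ (yon S').obj (Over.mk g) :=
  ObjectProperty.homMk (Slice.proj.{u + 1} F.obj)

/-- `j_! j⁻¹ F'` is the product of `h_S` and `F'`. -/
theorem isPullback_LR (F' : Sp S') :
    IsPullback (projHom (g := g) ((R g).obj F')) ((adj g).counit.app F')
      (terminal.from _) (terminal.from _) := by
  refine Sections.isPullback_of_sections (Subsingleton.elim _ _) ?_ ?_
  · intro T p q h h'
    obtain ⟨φ, a, rfl⟩ : ∃ (φ : T ⟶ Over.mk g) (a : F'.obj.obj (op ((Over.map g).obj (Slice.sl φ)))),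
      p = Slice.sec.{u + 1} (F := ((R g).obj F').obj) φ a := ⟨_, _, rfl⟩
    obtain ⟨ψ, b, rfl⟩ : ∃ (φ : T ⟶ Over.mk g) (a : F'.obj.obj (op ((Over.map g).obj (Slice.sl φ)))),
      q = Slice.sec.{u + 1} (F := ((R g).obj F').obj) φ a := ⟨_, _, rfl⟩
    have h1 : φ = ψ := congrArg ULift.down h
    subst h1
    rw [counit_sec, counit_sec] at h'
    have h2 := congrArg (F'.obj.map (Slice.slIso φ).hom.op) h'
    rw [← Functor.map_comp_apply, ← Functor.map_comp_apply, ← op_comp, Iso.hom_inv_id, op_id,
      Functor.map_id_apply, Functor.map_id_apply] at h2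
    rw [h2]
  · rintro T ⟨φ : T ⟶ Over.mk g⟩ y h
    refine ⟨Slice.sec.{u + 1} (F := ((R g).obj F').obj) φ (F'.obj.map (Slice.slIso φ).hom.op y),
      rfl, ?_⟩
    rw [counit_sec, ← Functor.map_comp_apply, ← op_comp, Iso.inv_hom_id, op_id,
      Functor.map_id_apply]

/-- `j_! j⁻¹ F' ≅ h_S × F'`. -/
noncomputable def isoProd (F' : Sp S') :
    (L g).obj ((R g).obj F') ≅ (yon S').obj (Over.mk g) ⨯ F' :=
  (isPullback_LR F').isoIsPullback _ _ (IsPullback.of_hasBinaryProduct' _ _)

theorem isAlgSpace_R_iff (F' : Sp S') :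
    IsAlgSpace ((R g).obj F') ↔ IsAlgSpace ((yon S').obj (Over.mk g) ⨯ F') :=
  (isAlgSpace_L_iff (g := g)).symm.trans (isAlgSpace_iff_of_iso (isoProd F'))

end K595.ChBase
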