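import Groth.Agent.AlgSp.K595.ChBaseAlg
/-!
# Change of base for algebraic spaces, IV: the equivalence with the slice category
-/

universe u

open CategoryTheory CategoryTheory.Limits AlgebraicGeometry Opposite AlgSp

namespace K595.ChBase

variable {S S' : Scheme.{u}} (g : S ⟶ S')

theorem L_map_projHom {F G : Sp S} (f : F ⟶ G) :
    (L g).map f ≫ projHom (g := g) G = projHom F := by
  apply ObjectProperty.hom_ext
  exact Slice.extMap_proj.{u + 1} f.hom

/-- `j_!` of an algebraic space. -/
noncomputable abbrev LSp (F : Space S) : Space S' := ⟨(L g).obj F.obj, isAlgSpace_L F.property⟩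

/-- `j_!` of an algebraic space, over `h_S`. -/
noncomputable abbrev objSp (F : Space S) : Over ((ofScheme S').obj (Over.mk g)) :=
  Over.mk (Y := LSp g F) (ObjectProperty.homMk (projHom (g := g) F.obj))

/-- `j_!` of a morphism of algebraic spaces, over `h_S`. -/
noncomputable abbrev mapSp {F G : Space S} (f : F ⟶ G) : objSp g F ⟶ objSp g G :=
  Over.homMk (U := objSp g F) (V := objSp g G)
    (ObjectProperty.homMk ((L g).map f.hom) : LSp g F ⟶ LSp g G) (by
    apply ObjectProperty.hom_ext
    exact L_map_projHom g f.hom)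

/-- The functor `F ↦ (j_! F ⟶ h_S)` on algebraic spaces. -/
noncomputable def toOverSp : Space S ⥤ Over ((ofScheme S').obj (Over.mk g)) where
  obj F := objSp g F
  map {F G} f := mapSp g f
  map_id F := rfl
  map_comp f h := rfl

/-- The same functor for sheaves. -/
abbrev toOver : Sp S ⥤ Over ((yon S').obj (Over.mk g)) := Slice.toOver.{u + 1} g Scheme.fppfTopology

instance toOverSp_faithful : (toOverSp g).Faithful where
  map_injective {F G} f f' h := by
    apply ObjectProperty.hom_ext
    apply (toOver g).map_injective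
    apply Over.OverMorphism.ext
    exact congrArg (fun t : objSp g F ⟶ objSp g G => t.left.hom) h

instance toOverSp_full : (toOverSp g).Full where
  map_surjective {F G} γ := by
    let γ₁ : LSp g F ⟶ LSp g G := Over.Hom.left γ
    have w : γ₁.hom ≫ projHom (g := g) G.obj = projHom F.obj := congrArg (fun t => t.hom) (Over.w γ)
    let γ' : (toOver g).obj F.obj ⟶ (toOver g).obj G.obj :=
      Over.homMk (U := (toOver g).obj F.obj) (V := (toOver g).obj G.obj) γ₁.hom w
    obtain ⟨f, hf⟩ := (toOver g).map_surjective γ'
    refine ⟨ObjectProperty.homMk f, ?_⟩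
    apply Over.OverMorphism.ext
    apply ObjectProperty.hom_ext
    exact congrArg (fun t => t.left) hf

instance toOverSp_essSurj : (toOverSp g).EssSurj where
  mem_essImage A := by
    let A' : Over ((yon S').obj (Over.mk g)) := Over.mk (Y := A.left.obj) A.hom.hom
    obtain ⟨F, ⟨e⟩⟩ : (toOver g).essImage A' := Functor.EssSurj.mem_essImage _ A'
    let e' : (L g).obj F ≅ A.left.obj := (Over.forget _).mapIso e
    have hF : IsAlgSpace F := isAlgSpace_of_L (g := g) (A.left.property.of_iso e'.symm)
    let e'' : LSp g ⟨F, hF⟩ ≅ A.left := ObjectProperty.isoMk _ e'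
    refine ⟨⟨F, hF⟩, ⟨Over.isoMk (f := objSp g ⟨F, hF⟩) (g := A) e'' ?_⟩⟩
    apply ObjectProperty.hom_ext
    exact Over.w e.hom

instance toOverSp_isEquivalence : (toOverSp g).IsEquivalence where

end K595.ChBase
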