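import Groth.Agent.AlgSp.K595.ChBase
import Groth.Agent.AlgSp.K595.DiagRel
/-!
# Change of base for fppf sheaves and algebraic spaces, II: the functor `j⁻¹`
-/

universe u

open CategoryTheory CategoryTheory.Limits AlgebraicGeometry Opposite AlgSp

namespace K595.ChBase

section homOf

variable {S : Scheme.{u}}

theorem homOf_app_apply {F : Sp S} {T W : Over S} (a : F.obj.obj (op T)) (w : W ⟶ T) :
    (homOf a).hom.app (op W) (⟨w⟩ : ULift (W ⟶ T)) = F.obj.map w.op a := by
  have h := NatTrans.naturality_apply (homOf a).hom w.op (⟨𝟙 T⟩ : ULift (T ⟶ T))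
  rw [homOf_app] at h
  refine Eq.trans ?_ h
  change _ = (homOf a).hom.app (op W) (⟨w ≫ 𝟙 T⟩ : ULift (W ⟶ T))
  rw [Category.comp_id]

/-- Every map out of `h_T` is `homOf`. -/
theorem eq_homOf {F : Sp S} {T : Over S} (x : (yon S).obj T ⟶ F) :
    x = homOf (x.hom.app (op T) (⟨𝟙 T⟩ : ULift (T ⟶ T))) := by
  apply (J S).uliftYonedaEquiv.injective
  rw [GrothendieckTopology.uliftYonedaEquiv_apply, GrothendieckTopology.uliftYonedaEquiv_apply]
  exact (homOf_app _).symm

theorem hom_app_apply {F : Sp S} {T W : Over S} (x : (yon S).obj T ⟶ F) (w : W ⟶ T) :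
    x.hom.app (op W) (⟨w⟩ : ULift (W ⟶ T)) =
      F.obj.map w.op (x.hom.app (op T) (⟨𝟙 T⟩ : ULift (T ⟶ T))) := by
  conv_lhs => rw [eq_homOf x]
  exact homOf_app_apply _ _

theorem homOf_comp {F G : Sp S} {T : Over S} (a : F.obj.obj (op T)) (f : F ⟶ G) :
    homOf a ≫ f = homOf (f.hom.app _ a) := by
  apply (J S).uliftYonedaEquiv.injective
  rw [GrothendieckTopology.uliftYonedaEquiv_comp]
  change f.hom.app _ ((J S).uliftYonedaEquiv (homOf a)) = _
  rw [GrothendieckTopology.uliftYonedaEquiv_apply, GrothendieckTopology.uliftYonedaEquiv_apply,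
    homOf_app, homOf_app]

theorem yon_map_homOf {F : Sp S} {T W : Over S} (w : W ⟶ T) (a : F.obj.obj (op T)) :
    (yon S).map w ≫ homOf a = homOf (F.obj.map w.op a) := by
  apply (J S).uliftYonedaEquiv.injective
  rw [← GrothendieckTopology.uliftYonedaEquiv_naturality]
  rw [GrothendieckTopology.uliftYonedaEquiv_apply, GrothendieckTopology.uliftYonedaEquiv_apply,
    homOf_app, homOf_app]

end homOf

variable {S S' : Scheme.{u}} {g : S ⟶ S'}

theorem exists_isPullback_R {F' G' : Sp S'} {f : F' ⟶ G'} (hf : Representable f) {T : Over S}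
    (x : (yon S).obj T ⟶ (R g).obj G') :
    ∃ (V' : Over S') (s' : V' ⟶ (Over.map g).obj T) (fst' : (yon S').obj V' ⟶ F')
      (x' : (yon S').obj ((Over.map g).obj T) ⟶ G')
      (_ : IsPullback fst' ((yon S').map s') f x') (V : Over S) (s : V ⟶ T)
      (e : (Over.map g).obj V ≅ V') (fst : (yon S).obj V ⟶ (R g).obj F'),
      s.left = e.hom.left ≫ s'.left ∧
      IsPullback fst ((yon S).map s) ((R g).map f) x := by
  let a : G'.obj.obj (op ((Over.map g).obj T)) := x.hom.app (op T) (⟨𝟙 T⟩ : ULift (T ⟶ T))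
  obtain ⟨V', s', fst', sq⟩ := hf (homOf a)
  let V : Over S := Over.mk (s'.left ≫ T.hom)
  let e : (Over.map g).obj V ≅ V' := Over.isoMk (Iso.refl _) (by
    have := Over.w s'
    simp only [Over.map_obj_hom] at this
    simp [V, this])
  let s : V ⟶ T := Over.homMk s'.left
  let fs' : F'.obj.obj (op ((Over.map g).obj V)) :=
    fst'.hom.app (op ((Over.map g).obj V)) (⟨e.hom⟩ : ULift ((Over.map g).obj V ⟶ V'))
  let fst : (yon S).obj V ⟶ (R g).obj F' := homOf (F := (R g).obj F') fs'
  have hes : e.hom ≫ s' = (Over.map g).map s := by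
    ext
    simp [e, s]
  have hfst : ∀ {W : Over S} (v : W ⟶ V), fst.hom.app (op W) (⟨v⟩ : ULift (W ⟶ V)) =
      fst'.hom.app (op ((Over.map g).obj W))
        (⟨(Over.map g).map v ≫ e.hom⟩ : ULift ((Over.map g).obj W ⟶ V')) := by
    intro W v
    refine (homOf_app_apply (F := (R g).obj F') fs' v).trans ?_
    exact (NatTrans.naturality_apply fst'.hom ((Over.map g).map v).op
      (⟨e.hom⟩ : ULift ((Over.map g).obj V ⟶ V'))).symm
  have hx : ∀ {W : Over S} (t : W ⟶ T), x.hom.app (op W) (⟨t⟩ : ULift (W ⟶ T)) =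
      (homOf a).hom.app (op ((Over.map g).obj W))
        (⟨(Over.map g).map t⟩ : ULift ((Over.map g).obj W ⟶ (Over.map g).obj T)) := by
    intro W t
    rw [hom_app_apply x t]
    exact (homOf_app_apply a _).symm
  refine ⟨V', s', fst', homOf a, sq, V, s, e, fst, ?_, ?_⟩
  · simp [e, s]
  · have w' : ∀ {W : Over S'} (v : W ⟶ V'), f.hom.app _ (fst'.hom.app (op W) (⟨v⟩ : ULift (W ⟶ V'))) =
      (homOf a).hom.app (op W) (⟨v ≫ s'⟩ : ULift (W ⟶ (Over.map g).obj T)) := by
      intro W v
      exact congrArg (fun k : (yon S').obj V' ⟶ G' => k.hom.app (op W) (⟨v⟩ : ULift (W ⟶ V'))) sq.w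
    refine Sections.isPullback_of_sections ?_ ?_ ?_
    · apply ObjectProperty.hom_ext
      apply NatTrans.ext
      funext W
      refine ConcreteCategory.hom_ext _ _ fun v => ?_
      obtain ⟨v⟩ := v
      change f.hom.app _ (fst.hom.app W (⟨v⟩ : ULift (W.unop ⟶ V))) =
        x.hom.app W (⟨v ≫ s⟩ : ULift (W.unop ⟶ T))
      rw [hfst, hx]
      refine (w' _).trans ?_
      rw [Category.assoc, hes, ← Functor.map_comp]
    · rintro W ⟨v₁ : W ⟶ V⟩ ⟨v₂ : W ⟶ V⟩ h1 h2
      apply ULift.ext
      change v₁ = v₂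
      rw [hfst, hfst] at h1
      have h2' : v₁ ≫ s = v₂ ≫ s := congrArg ULift.down h2
      have h3 := Sections.section_ext sq h1 (by
        apply ULift.ext
        change ((Over.map g).map v₁ ≫ e.hom) ≫ s' = ((Over.map g).map v₂ ≫ e.hom) ≫ s'
        rw [Category.assoc, Category.assoc, hes, ← Functor.map_comp, ← Functor.map_comp, h2'])
      have h4 : (Over.map g).map v₁ ≫ e.hom = (Over.map g).map v₂ ≫ e.hom := congrArg ULift.down h3
      have h5 := congrArg (fun t => t.left) h4
      apply Over.OverMorphism.ext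
      simpa [e] using h5
    · rintro W (b : F'.obj.obj (op ((Over.map g).obj W))) ⟨t : W ⟶ T⟩ h
      rw [hx] at h
      obtain ⟨⟨v' : (Over.map g).obj W ⟶ V'⟩, h1, h2⟩ := Sections.exists_section sq b
        (⟨(Over.map g).map t⟩ : ULift ((Over.map g).obj W ⟶ (Over.map g).obj T)) h
      have h2' : v' ≫ s' = (Over.map g).map t := congrArg ULift.down h2
      have h3 : v'.left ≫ s'.left = t.left := congrArg (fun t => t.left) h2'
      let v : W ⟶ V := Over.homMk v'.left (by
        change v'.left ≫ s'.left ≫ T.hom = W.hom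
        rw [← Category.assoc, h3]
        exact Over.w t)
      refine ⟨⟨v⟩, ?_, ?_⟩
      · rw [hfst]
        refine Eq.trans ?_ h1
        congr 2
      · apply ULift.ext
        change v ≫ s = t
        ext
        simp [v, s, h3]

theorem representable_R {F' G' : Sp S'} {f : F' ⟶ G'} (hf : Representable f) :
    Representable ((R g).map f) := by
  intro T x
  obtain ⟨V', s', fst', x', sq, V, s, e, fst, hs, sq'⟩ := exists_isPullback_R (g := g) hf x
  exact ⟨_, _, _, sq'⟩

theorem repWith_R {P : MorphismProperty Scheme.{u}} [P.RespectsIso] {F' G' : Sp S'} {f : F' ⟶ G'}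
    (hf : RepWith P f) : RepWith P ((R g).map f) := by
  have : (P.inverseImage (Over.forget S)).RespectsIso :=
    MorphismProperty.RespectsIso.inverseImage P _
  refine MorphismProperty.relative.of_exists fun T x => ?_
  obtain ⟨V', s', fst', x', sq, V, s, e, fst, hs, sq'⟩ := exists_isPullback_R (g := g) hf.1 x
  refine ⟨_, _, _, sq', ?_⟩
  change P s.left
  have h1 : P s'.left := hf.2 _ _ _ sq
  have h2 : IsIso e.hom.left := inferInstanceAs (IsIso ((Over.forget S').map e.hom))
  rw [hs]
  exact (P.cancel_left_of_respectsIso _ _).2 h1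

/-- A morphism of fppf sheaves over `S` has `P` exactly when its extension over `S'` does. -/
theorem repWith_L_iff {P : MorphismProperty Scheme.{u}} [P.RespectsIso] {F G : Sp S} (f : F ⟶ G) :
    RepWith P ((L g).map f) ↔ RepWith P f := by
  refine ⟨fun h => ?_, repWith_L⟩
  exact MorphismProperty.of_isPullback (P := RepWith P) (isPullback_unit (g := g) f)
    (repWith_R (g := g) h)

theorem representable_L_iff {F G : Sp S} (f : F ⟶ G) :
    Representable ((L g).map f) ↔ Representable f := by
  refine ⟨fun h => ?_, representable_L⟩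
  exact MorphismProperty.of_isPullback (P := Representable) (isPullback_unit (g := g) f)
    (representable_R (g := g) h)

end K595.ChBase
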