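import Mathlib.AlgebraicGeometry.Limits
import Mathlib.AlgebraicGeometry.ResidueField
import Mathlib.CategoryTheory.Limits.Constructions.Over.Connected
import Mathlib.CategoryTheory.Limits.Preserves.Shapes.Products
/-!
# Coproducts of schemes over a base

For a colimit cofan `c` of a family `F : ι → Over S` : the maps `(c.inj i).left` are open immersions, jointly
surjective and with disjoint images; a morphism from the spectrum of a field factors through one of them.
-/

set_option autoImplicit false
universe u
open CategoryTheory CategoryTheory.Limits AlgebraicGeometry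

namespace K595.CofanOver

variable {S : Scheme.{u}} {ι : Type u} {F : ι → Over S} {c : Cofan F} (hc : IsColimit c)

include hc

theorem exists_iso : ∃ e : c.pt.left ≅ ∐ (fun i => (F i).left),
    ∀ i, (c.inj i).left ≫ e.hom = Sigma.ι (fun i => (F i).left) i := by
  have h1 : IsColimit (Cofan.mk c.pt c.inj) := hc.ofIsoColimit (Cocone.ext (Iso.refl _) (by
    rintro ⟨i⟩
    exact Category.comp_id _))
  let h2 : IsColimit (Cofan.mk c.pt.left fun i => (c.inj i).left) :=
    isColimitCofanMkObjOfIsColimit (Over.forget S) F c.inj h1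
  refine ⟨h2.coconePointUniqueUpToIso (coproductIsCoproduct _), fun i => ?_⟩
  exact h2.comp_coconePointUniqueUpToIso_hom (coproductIsCoproduct _) ⟨i⟩

theorem isOpenImmersion (i : ι) : IsOpenImmersion (c.inj i).left := by
  obtain ⟨e, he⟩ := exists_iso hc
  have : (c.inj i).left = Sigma.ι (fun i => (F i).left) i ≫ e.inv := by
    rw [← he, Category.assoc, Iso.hom_inv_id, Category.comp_id]
  rw [this]
  infer_instance

theorem exists_mem (x : c.pt.left) : ∃ (i : ι) (y : (F i).left), (c.inj i).left y = x := by
  obtain ⟨e, he⟩ := exists_iso hc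
  obtain ⟨i, y, hy⟩ : ∃ (i : ι) (y : (F i).left), Sigma.ι (fun i => (F i).left) i y = e.hom x :=
    (sigmaOpenCover (fun i => (F i).left)).exists_eq (e.hom x)
  refine ⟨i, y, ?_⟩
  apply e.hom.homeomorph.injective
  change e.hom ((c.inj i).left y) = e.hom x
  rw [← Scheme.Hom.comp_apply, he]
  exact hy

theorem eq_of_eq {i j : ι} {y : (F i).left} {z : (F j).left}
    (h : (c.inj i).left y = (c.inj j).left z) : i = j := by
  obtain ⟨e, he⟩ := exists_iso hc
  have h1 := congrArg e.hom h
  rw [← Scheme.Hom.comp_apply, ← Scheme.Hom.comp_apply, he, he] at h1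
  exact congrArg (fun t => t.1) ((sigmaι_eq_iff (fun i => (F i).left) i j y z).1 h1)

/-- A morphism from a local-like object: if the image of `r` is in the `i`-th summand then `r` factors. -/
theorem exists_factor_of_subset {T : Over S} (r : T ⟶ c.pt) (i : ι)
    (h : Set.range r.left ⊆ Set.range (c.inj i).left) : ∃ u : T ⟶ F i, u ≫ c.inj i = r := by
  have := isOpenImmersion hc i
  have h1 := IsOpenImmersion.lift_fac (c.inj i).left r.left h
  refine ⟨Over.homMk (IsOpenImmersion.lift (c.inj i).left r.left h) ?_, ?_⟩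
  · rw [← Over.w (c.inj i), ← Category.assoc, h1]
    exact Over.w r
  · ext1
    exact h1

theorem exists_factor_of_field {L : Type u} [Field L] (τ : Spec (CommRingCat.of L) ⟶ S)
    (r : Over.mk τ ⟶ c.pt) : ∃ (i : ι) (u : Over.mk τ ⟶ F i), u ≫ c.inj i = r := by
  obtain ⟨i, y, hy⟩ := exists_mem hc (r.left (⊥ : PrimeSpectrum L))
  refine ⟨i, exists_factor_of_subset hc r i ?_⟩
  rintro _ ⟨z, rfl⟩
  refine ⟨y, ?_⟩
  rw [hy, Subsingleton.elim (α := PrimeSpectrum L) z (⊥ : PrimeSpectrum L)]

end K595.CofanOver
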