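import Groth.Agent.AlgSp.K594.FibSh
import Groth.Agent.Desc.ToDD
/-!
# fppf descent of representability from effectivity of descent data

`hdesc` : descent data relative to surjective flat lfp morphisms with structure morphism in `P` are effective.
-/

set_option autoImplicit false
set_option backward.isDefEq.respectTransparency.types false
universe u
open CategoryTheory CategoryTheory.Limits AlgebraicGeometry Opposite AlgSp

namespace K595.EffRep

open K594.Elem K594.Cover K594.FibSh K594.Basic
open Groth.Agent.Desc.SecPresheaf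
open Groth.Agent.Desc.SecFunctor (restr)

/-- Effective descent for morphisms in `P`. -/
def Eff (P : MorphismProperty Scheme.{u}) : Prop :=
  ∀ ⦃X' S' : Scheme.{u}⦄ (p : X' ⟶ S'), Surjective p → Flat p → LocallyOfFinitePresentation p →
      ∀ D : Desc.SchDD p, P D.obj.hom → (Desc.toDD p).essImage D

instance toDD_full {X S : Scheme.{u}} (p : X ⟶ S) [Surjective p] [Flat p]
    [LocallyOfFinitePresentation p] : (_root_.Desc.toDD p).Full :=
  ⟨fun {U₁ U₂} => Groth.Agent.Desc.ToDD.map_surjective_of_effectiveEpi p U₁ U₂⟩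

variable {S : Scheme.{u}} {F G : Sp S} {f : F ⟶ G}

theorem isPSheaf_sfib {U : Over S} (y : G.obj.obj (op U)) [FunctorToTypes.Small.{u} (fib f y)]
    {U' : Over S} {t : U' ⟶ U} (ht : Cov t) : IsPSheaf t.left (sfib f y) := by
  intro T
  apply isDesc_sfib
  have h1 := ht.flat
  have h2 := ht.lfp
  have h3 := ht.surj
  exact ⟨inferInstanceAs (Flat (pullback.snd t.left T.hom)),
    inferInstanceAs (LocallyOfFinitePresentation (pullback.snd t.left T.hom)),
    inferInstanceAs (Surjective (pullback.snd t.left T.hom))⟩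

theorem exists_isRep_of_eff {P : MorphismProperty Scheme.{u}} (hdesc : Eff P) {U : Over S}
    {y : G.obj.obj (op U)} {U' V' : Over S} {t : U' ⟶ U}
    (ht : Cov t) {v : V' ⟶ U'} {ξ : F.obj.obj (op V')} (h : IsRep f (G.obj.map t.op y) v ξ)
    (hv : P v.left) :
    ∃ (V : Over S) (v : V ⟶ U) (ξ : F.obj.obj (op V)), IsRep f y v ξ := by
  have := small_fib ht h
  obtain ⟨e⟩ := rep_restr t h
  have h1 := ht.flat
  have h2 := ht.lfp
  have h3 := ht.surj
  have hF := isPSheaf_sfib (f := f) y ht
  obtain ⟨E, ⟨i⟩⟩ := hdesc t.left h3 h1 h2 (ofPresheaf e) hv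
  have := Groth.Agent.S1132.result t.left
  obtain ⟨ξ', hξ'⟩ := isRep_of_rep (representableByOfEffective e hF i)
  exact ⟨_, _, ξ', hξ'⟩

theorem repWith_of_eff {P : MorphismProperty Scheme.{u}} [P.IsStableUnderBaseChange]
    [P.IsLocalAtTarget Scheme.fppfPrecoverage] (hdesc : Eff P)
    (h : ∀ {U : Over S} (y : G.obj.obj (op U)), ∃ (U' : Over S) (t : U' ⟶ U) (_ : Cov t)
      (V' : Over S) (v' : V' ⟶ U') (ξ : F.obj.obj (op V')), IsRep f (G.obj.map t.op y) v' ξ ∧
        P v'.left) : RepWith P f := by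
  have : P.RespectsIso := MorphismProperty.IsStableUnderBaseChange.respectsIso
  apply repWith_of_exists
  intro U y
  obtain ⟨U', t, ht, V', v', ξ', h', hv'⟩ := h y
  obtain ⟨V, v, ξ, hξ⟩ := exists_isRep_of_eff hdesc ht h' hv'
  refine ⟨V, v, ξ, hξ, ?_⟩
  have sq := IsPullback.of_hasPullback v t
  obtain ⟨e, he, -⟩ := (hξ.baseChange sq).exists_iso h'
  have h4 : P (pullback.snd v t).left := by
    rw [← he, Over.comp_left]
    exact (P.cancel_left_of_respectsIso _ _).mpr hv'
  have i1 := ht.flat
  have i2 := ht.lfp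
  have i3 := ht.surj
  have sq' : IsPullback (pullback.fst v t).left (pullback.snd v t).left v.left t.left :=
    sq.map (Over.forget S)
  exact of_isPullback_cov P sq' h4

/-- Descent of representability and of the property `P` along a locally surjective base change. -/
theorem repWith_of_isPullback {P : MorphismProperty Scheme.{u}} [P.IsStableUnderBaseChange]
    [P.IsLocalAtTarget Scheme.fppfPrecoverage] (hdesc : Eff P) {F G H : Sp S} (a : F ⟶ G)
    (b : H ⟶ G) [Sheaf.IsLocallySurjective b] {Q : Sp S} {b' : Q ⟶ F}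
    {a' : Q ⟶ H} (sq : IsPullback b' a' a b) (h : RepWith P a') : RepWith P a := by
  apply repWith_of_eff hdesc
  intro U y
  obtain ⟨U', g, x, hg, hx⟩ := (isLocallySurjective_iff b).1 ‹_› U y
  obtain ⟨V', v', ξ, hξ, hv'⟩ := RepWith.exists_isRep h x
  refine ⟨U', g, hg, V', v', b'.hom.app _ ξ, ?_, hv'⟩
  rw [← hx]
  exact K594.FppfRep.isRep_of_isPullback_sq sq hξ

end K595.EffRep
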