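import Groth.Agent.S0658
import Mathlib.FieldTheory.Galois.Basic
import Mathlib.AlgebraicGeometry.ResidueField
import Mathlib.FieldTheory.IsAlgClosed.AlgebraicClosure
/-!
# Galois points

* `exists_galois_point`: a nonempty scheme etale over a field has a point in a finite Galois extension.
* `exists_descent`: a morphism `Spec L ⟶ X` invariant under a subgroup `N` of `Gal(L/k)` comes from the
  fixed field.
-/

set_option autoImplicit false
universe u
open CategoryTheory CategoryTheory.Limits AlgebraicGeometry

namespace K595.GalPt

/-- The normal closure of a separable extension is Galois. -/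
theorem isGalois_normalClosure (k K L : Type u) [Field k] [Field K] [Field L] [Algebra k K]
    [Algebra k L] [Algebra.IsSeparable k K] [Normal k L] :
    IsGalois k (IntermediateField.normalClosure k K L) where
  to_isSeparable := by
    have (f : K →ₐ[k] L) : Algebra.IsSeparable k f.fieldRange :=
      AlgEquiv.Algebra.isSeparable (AlgEquiv.ofInjectiveField f)
    exact IntermediateField.isSeparable_iSup k L
  to_normal := inferInstance

theorem exists_galois_point (k : Type u) [Field k] (P : Scheme.{u})
    (φ : P ⟶ Spec (CommRingCat.of k)) [Etale φ] [Nonempty P] :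
    ∃ (L : Type u) (_ : Field L) (_ : Algebra k L) (_ : FiniteDimensional k L) (_ : IsGalois k L)
      (a : Spec (CommRingCat.of L) ⟶ P), a ≫ φ = Spec.map (CommRingCat.ofHom (algebraMap k L)) := by
  obtain ⟨ι, K, hF, hA, hfd, hs, e, he⟩ := (Groth.Agent.S0658.result k P φ).1 inferInstance
  obtain ⟨i⟩ : Nonempty ι := by
    by_contra h
    rw [not_nonempty_iff] at h
    obtain ⟨x⟩ := ‹Nonempty P›
    obtain ⟨i, y, hy⟩ := (sigmaOpenCover fun i => Spec (CommRingCat.of (K i))).exists_eq (e.inv x)
    exact h.elim i
  have : Algebra.IsAlgebraic k (K i) := Algebra.IsAlgebraic.of_finite k (K i)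
  have := isGalois_normalClosure k (K i) (AlgebraicClosure (K i))
  refine ⟨IntermediateField.normalClosure k (K i) (AlgebraicClosure (K i)), inferInstance,
    inferInstance, inferInstance, inferInstance,
    Spec.map (CommRingCat.ofHom (algebraMap (K i)
      (IntermediateField.normalClosure k (K i) (AlgebraicClosure (K i))))) ≫
      Sigma.ι (fun i => Spec (CommRingCat.of (K i))) i ≫ e.hom, ?_⟩
  rw [Category.assoc, Category.assoc, he, ← Spec.map_comp, ← CommRingCat.ofHom_comp,
    ← IsScalarTower.algebraMap_eq]

end K595.GalPt

namespace K595.GalPt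

instance surjective_spec {K L : Type u} [Field K] [Field L] (f : K →+* L) :
    Surjective (Spec.map (CommRingCat.ofHom f)) :=
  ⟨fun x => ⟨(⊥ : PrimeSpectrum L), Subsingleton.elim (α := PrimeSpectrum K) _ _⟩⟩

instance epi_spec {K L : Type u} [Field K] [Field L] (f : K →+* L) :
    Epi (Spec.map (CommRingCat.ofHom f)) := by
  have : Flat (Spec.map (CommRingCat.ofHom f)) := by
    rw [HasRingHomProperty.Spec_iff (P := @Flat)]
    algebraize [f]
    exact inferInstanceAs (Module.Flat K L)
  exact Flat.epi_of_flat_of_surjective _

/-- The point and the embedding of the residue field attached to a morphism from the spectrum of a field. -/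
theorem exists_residue {L : Type u} [Field L] {X : Scheme.{u}} (x : Spec (CommRingCat.of L) ⟶ X) :
    ∃ (p : X) (φ : X.residueField p ⟶ CommRingCat.of L), x = Spec.map φ ≫ X.fromSpecResidueField p :=
  ⟨_, _, ((Scheme.SpecToEquivOfField L X).symm_apply_apply x).symm⟩

/-- A morphism `Spec L ⟶ X` invariant under a subgroup `N` of `Gal(L/k)` comes from the fixed field. -/
theorem exists_descent {k L : Type u} [Field k] [Field L] [Algebra k L] (N : Subgroup (L ≃ₐ[k] L))
    {X : Scheme.{u}} (x : Spec (CommRingCat.of L) ⟶ X)
    (h : ∀ σ ∈ N, Spec.map (CommRingCat.ofHom (σ : L ≃ₐ[k] L).toRingEquiv.toRingHom) ≫ x = x) :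
    ∃ x' : Spec (CommRingCat.of (IntermediateField.fixedField N)) ⟶ X,
      Spec.map (CommRingCat.ofHom (algebraMap (IntermediateField.fixedField N) L)) ≫ x' = x := by
  obtain ⟨p, φ, rfl⟩ := exists_residue x
  have h1 : ∀ a, φ.hom a ∈ IntermediateField.fixedField N := by
    intro a
    rw [IntermediateField.mem_fixedField_iff]
    intro σ hσ
    have h2 := h σ hσ
    rw [← Category.assoc, ← Spec.map_comp, cancel_mono] at h2
    have h3 := Spec.map_injective h2
    exact congrArg (fun t => t.hom a) h3
  let φ' : X.residueField p ⟶ CommRingCat.of (IntermediateField.fixedField N) :=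
    CommRingCat.ofHom (RingHom.codRestrict φ.hom (IntermediateField.fixedField N) h1)
  refine ⟨Spec.map φ' ≫ X.fromSpecResidueField p, ?_⟩
  rw [← Category.assoc, ← Spec.map_comp]
  rfl

end K595.GalPt
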