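import Groth.Agent.AlgSp.K595.CofanOver
import Groth.Agent.AlgSp.K595.GalPt
import Groth.Agent.AlgSp.K594.Bootstrap
/-!
# Free actions of groups on schemes over a base, and field points of the quotient

-/

set_option autoImplicit false
universe u
open CategoryTheory CategoryTheory.Limits AlgebraicGeometry Opposite AlgSp

namespace K595.FreeAct

open K594.Elem K594.Cover

variable {S : Scheme.{u}} {U : Over S} {G : Type u} [Group G] (ρ : G →* Aut U)

/-- No non-identity element fixes a point together with its residue field. -/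
def IsFree : Prop := ∀ (g : G) (x : U.left), g ≠ 1 →
  U.left.fromSpecResidueField x ≫ (ρ g).hom.left ≠ U.left.fromSpecResidueField x

theorem ρ_mul (g h : G) : (ρ (g * h)).hom = (ρ h).hom ≫ (ρ g).hom := by
  rw [map_mul]
  rfl

theorem ρ_one : (ρ 1).hom = 𝟙 U := by
  rw [map_one]
  rfl

variable {ρ}

theorem eq_one_of_field (hfree : IsFree ρ) {L : Type u} [Field L]
    (x : Spec (CommRingCat.of L) ⟶ U.left) (g : G) (h : x ≫ (ρ g).hom.left = x) : g = 1 := by
  by_contra hg
  obtain ⟨p, φ, rfl⟩ := GalPt.exists_residue x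
  apply hfree g p hg
  have h1 : Epi (Spec.map φ) := GalPt.epi_spec φ.hom
  rw [← cancel_epi (Spec.map φ), ← Category.assoc]
  exact h

theorem eq_of_field (hfree : IsFree ρ) {L : Type u} [Field L] {τ : Spec (CommRingCat.of L) ⟶ S}
    (x : Over.mk τ ⟶ U) (g g' : G) (h : x ≫ (ρ g).hom = x ≫ (ρ g').hom) : g = g' := by
  have h1 : x ≫ (ρ (g⁻¹ * g')).hom = x := by
    rw [ρ_mul, ← Category.assoc, ← h, Category.assoc, ← ρ_mul, inv_mul_cancel, ρ_one,
      Category.comp_id]
  have h2 := eq_one_of_field hfree x.left (g⁻¹ * g') (congrArg (fun t => t.left) h1)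
  exact (inv_mul_eq_one.1 h2)

/-- `Spec K` over `S`. -/
noncomputable abbrev sp {k : Type u} [Field k] (σ : Spec (CommRingCat.of k) ⟶ S) (K : Type u) [Field K] [Algebra k K] :
    Over S := Over.mk (Spec.map (CommRingCat.ofHom (algebraMap k K)) ≫ σ)

/-- functoriality -/
noncomputable abbrev spMap {k : Type u} [Field k] (σ : Spec (CommRingCat.of k) ⟶ S) {K L : Type u} [Field K]
    [Algebra k K] [Field L] [Algebra k L] (f : K →ₐ[k] L) : sp σ L ⟶ sp σ K :=
  Over.homMk (Spec.map (CommRingCat.ofHom f.toRingHom)) (by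
    change Spec.map _ ≫ Spec.map _ ≫ σ = Spec.map _ ≫ σ
    rw [← Category.assoc, ← Spec.map_comp, ← CommRingCat.ofHom_comp]
    congr 3
    exact f.comp_algebraMap)

theorem cov_spMap {k : Type u} [Field k] (σ : Spec (CommRingCat.of k) ⟶ S) {K L : Type u} [Field K]
    [Algebra k K] [Field L] [Algebra k L] [FiniteDimensional k L] (f : K →ₐ[k] L) :
    Cov (spMap σ f) where
  flat := by
    change Flat (Spec.map (CommRingCat.ofHom f.toRingHom))
    rw [HasRingHomProperty.Spec_iff (P := @Flat)]
    algebraize [f.toRingHom]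
    exact inferInstanceAs (Module.Flat K L)
  lfp := by
    change LocallyOfFinitePresentation (Spec.map (CommRingCat.ofHom f.toRingHom))
    rw [HasRingHomProperty.Spec_iff (P := @LocallyOfFinitePresentation)]
    algebraize [f.toRingHom]
    have : IsScalarTower k K L := IsScalarTower.of_algebraMap_eq' (by
      exact f.comp_algebraMap.symm)
    have : Module.Finite K L := Module.Finite.of_restrictScalars_finite k K L
    have : Algebra.FiniteType K L := inferInstance
    exact Algebra.FinitePresentation.of_finiteType.1 this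
  surj := GalPt.surjective_spec f.toRingHom

variable (S) in
/-- maps out of `h_T` which agree on a cover agree -/
theorem hom_ext_cov' {T T' : Over S} {g : T' ⟶ T} (hg : Cov g) {F : Sp S}
    {a b : (yon S).obj T ⟶ F} (h : (yon S).map g ≫ a = (yon S).map g ≫ b) : a = b := by
  apply (J S).uliftYonedaEquiv.injective
  apply hg.ext F
  rw [GrothendieckTopology.uliftYonedaEquiv_naturality,
    GrothendieckTopology.uliftYonedaEquiv_naturality, h]


/-- The structure map to `Spec k`. -/
noncomputable abbrev spStr {k : Type u} [Field k] (σ : Spec (CommRingCat.of k) ⟶ S) (K : Type u)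
    [Field K] [Algebra k K] : sp σ K ⟶ Over.mk σ :=
  Over.homMk (Spec.map (CommRingCat.ofHom (algebraMap k K)))

theorem spMap_str {k : Type u} [Field k] (σ : Spec (CommRingCat.of k) ⟶ S) {K L : Type u} [Field K]
    [Algebra k K] [Field L] [Algebra k L] (f : K →ₐ[k] L) : spMap σ f ≫ spStr σ K = spStr σ L := by
  ext1
  change Spec.map _ ≫ Spec.map _ = Spec.map _
  rw [← Spec.map_comp, ← CommRingCat.ofHom_comp]
  congr 2
  exact f.comp_algebraMap

theorem spMap_comp {k : Type u} [Field k] (σ : Spec (CommRingCat.of k) ⟶ S) {K L M : Type u} [Field K]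
    [Algebra k K] [Field L] [Algebra k L] [Field M] [Algebra k M] (f : K →ₐ[k] L) (g : L →ₐ[k] M) :
    spMap σ (g.comp f) = spMap σ g ≫ spMap σ f := by
  ext1
  change Spec.map _ = Spec.map _ ≫ Spec.map _
  rw [← Spec.map_comp, ← CommRingCat.ofHom_comp]
  rfl

theorem spMap_id {k : Type u} [Field k] (σ : Spec (CommRingCat.of k) ⟶ S) {K : Type u} [Field K]
    [Algebra k K] : spMap σ (AlgHom.id k K) = 𝟙 _ := by
  ext1
  change Spec.map (𝟙 _) = 𝟙 _
  exact Spec.map_id _

section main

variable {c : Cofan (fun _ : G => U)} (hc : IsColimit c) {s t : c.pt ⟶ U}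
  (hs : ∀ g, c.inj g ≫ s = 𝟙 U) (ht : ∀ g, c.inj g ≫ t = (ρ g).hom)
  (hR : IsEqvRel s t)

include hc hs ht hR in
/-- Two field points of `U` with the same image in `U/R` differ by an element of `G`. -/
theorem exists_act {k : Type u} [Field k] (τ : Spec (CommRingCat.of k) ⟶ S)
    (x y : Over.mk τ ⟶ U)
    (h : (yon S).map y ≫ K594.Quot.π s t = (yon S).map x ≫ K594.Quot.π s t) :
    ∃ g : G, y = x ≫ (ρ g).hom := by
  obtain ⟨r, h1, h2⟩ := K594.Quot.exists_of_π_eq s t hR y x h
  obtain ⟨g, u, rfl⟩ := CofanOver.exists_factor_of_field hc τ r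
  rw [Category.assoc, hs, Category.comp_id] at h2
  rw [Category.assoc, ht] at h1
  exact ⟨g, by rw [← h1, h2]⟩

end main

end K595.FreeAct
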