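import Groth.Agent.AlgSp.K595.FreeAct
/-!
# Field points of the quotient of a scheme by a free action of a group

-/

set_option autoImplicit false
universe u
open CategoryTheory CategoryTheory.Limits AlgebraicGeometry Opposite AlgSp

namespace K595.FreeAct

open K594.Elem K594.Cover

variable {S : Scheme.{u}} {U : Over S} {G : Type u} [Group G] {ρ : G →* Aut U}

/-- The homomorphism `Gal(L/k) ⟶ G` attached to a point of `U` over `L` all of whose conjugates are in its
`G`-orbit. -/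
theorem exists_hom (hfree : IsFree ρ) {k L : Type u} [Field k] [Field L] [Algebra k L]
    {σ : Spec (CommRingCat.of k) ⟶ S} (x : sp σ L ⟶ U)
    (h : ∀ τ : L ≃ₐ[k] L, ∃ g : G, spMap σ (τ : L →ₐ[k] L) ≫ x = x ≫ (ρ g).hom) :
    ∃ γ : (L ≃ₐ[k] L) →* G, ∀ τ, spMap σ ((τ⁻¹ : L ≃ₐ[k] L) : L →ₐ[k] L) ≫ x = x ≫ (ρ (γ τ)).hom := by
  choose γ hγ using h
  refine ⟨MonoidHom.mk' (fun τ => γ τ⁻¹) ?_, fun τ => hγ τ⁻¹⟩
  intro a b
  apply eq_of_field hfree x
  rw [← hγ, ρ_mul, ← Category.assoc, ← hγ, Category.assoc, ← hγ, ← Category.assoc, ← spMap_comp]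
  congr 2

/-- Descent of a point to the fixed field of the kernel. -/
theorem exists_galois_data {k L : Type u} [Field k] [Field L] [Algebra k L]
    [FiniteDimensional k L] [IsGalois k L]
    {σ : Spec (CommRingCat.of k) ⟶ S} (x : sp σ L ⟶ U) (γ : (L ≃ₐ[k] L) →* G)
    (hγ : ∀ τ, spMap σ ((τ⁻¹ : L ≃ₐ[k] L) : L →ₐ[k] L) ≫ x = x ≫ (ρ (γ τ)).hom) :
    ∃ (k' : Type u) (_ : Field k') (_ : Algebra k k') (_ : FiniteDimensional k k') (_ : IsGalois k k')
      (H : Subgroup G) (_ : Finite H) (e : H ≃* (k' ≃ₐ[k] k')) (x' : sp σ k' ⟶ U)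
      (j : k' →ₐ[k] L),
      (∀ h : H, Spec.map (CommRingCat.ofHom (e h).symm.toRingEquiv.toRingHom) ≫ x'.left =
        x'.left ≫ (ρ (h : G)).hom.left) ∧ spMap σ j ≫ x' = x := by
  have hker : ∀ τ ∈ γ.ker, Spec.map (CommRingCat.ofHom (τ : L ≃ₐ[k] L).toRingEquiv.toRingHom) ≫ x.left =
      x.left := by
    intro τ hτ
    have h1 := hγ τ⁻¹
    rw [inv_inv, map_inv, MonoidHom.mem_ker.1 hτ, inv_one, ρ_one, Category.comp_id] at h1
    exact congrArg (fun t => t.left) h1
  obtain ⟨x', hx'⟩ := GalPt.exists_descent γ.ker x.left hker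
  have hw : x' ≫ U.hom = (sp σ (IntermediateField.fixedField γ.ker)).hom := by
    have := GalPt.epi_spec (algebraMap (IntermediateField.fixedField γ.ker) L)
    rw [← cancel_epi (Spec.map (CommRingCat.ofHom
      (algebraMap (IntermediateField.fixedField γ.ker) L))), ← Category.assoc, hx']
    refine (Over.w x).trans ?_
    change Spec.map _ ≫ σ = Spec.map _ ≫ Spec.map _ ≫ σ
    rw [← Category.assoc, ← Spec.map_comp, ← CommRingCat.ofHom_comp]
    congr 3
  have hfin : Finite γ.range := Finite.of_surjective γ.rangeRestrict γ.rangeRestrict_surjective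
  let e : γ.range ≃* (IntermediateField.fixedField γ.ker ≃ₐ[k] IntermediateField.fixedField γ.ker) :=
    (QuotientGroup.quotientKerEquivRange γ).symm.trans (IsGalois.normalAutEquivQuotient γ.ker)
  have he : ∀ τ, e (γ.rangeRestrict τ) =
      AlgEquiv.restrictNormalHom (IntermediateField.fixedField γ.ker) τ := by
    intro τ
    have h1 : (QuotientGroup.quotientKerEquivRange γ).symm (γ.rangeRestrict τ) =
        (QuotientGroup.mk τ : (L ≃ₐ[k] L) ⧸ γ.ker) := by
      rw [MulEquiv.symm_apply_eq]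
      rfl
    exact congrArg (IsGalois.normalAutEquivQuotient γ.ker) h1
  refine ⟨IntermediateField.fixedField γ.ker, inferInstance, inferInstance, inferInstance,
    inferInstance, γ.range, hfin, e, Over.homMk x' hw, (IntermediateField.fixedField γ.ker).val,
    ?_, ?_⟩
  · rintro ⟨_, τ, rfl⟩
    have h2 : e ⟨γ τ, ⟨τ, rfl⟩⟩ = AlgEquiv.restrictNormalHom _ τ := he τ
    rw [h2]
    change Spec.map _ ≫ x' = x' ≫ (ρ (γ τ)).hom.left
    have := GalPt.epi_spec (algebraMap (IntermediateField.fixedField γ.ker) L)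
    rw [← cancel_epi (Spec.map (CommRingCat.ofHom
      (algebraMap (IntermediateField.fixedField γ.ker) L)))]
    rw [← Category.assoc, ← Category.assoc, hx']
    have h3 := congrArg (fun t => t.left) (hγ τ)
    change Spec.map _ ≫ x.left = x.left ≫ (ρ (γ τ)).hom.left at h3
    rw [← h3, ← hx', ← Category.assoc, ← Spec.map_comp, ← Spec.map_comp, ← CommRingCat.ofHom_comp,
      ← CommRingCat.ofHom_comp]
    congr 3
    ext z
    have h4 : (AlgEquiv.restrictNormalHom (IntermediateField.fixedField γ.ker) τ).symm =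
      AlgEquiv.restrictNormalHom (IntermediateField.fixedField γ.ker) τ⁻¹ := by
      rw [map_inv]
      rfl
    change algebraMap _ L ((AlgEquiv.restrictNormalHom _ τ).symm z) = τ⁻¹ (algebraMap _ L z)
    rw [h4]
    exact AlgEquiv.restrictNormal_commutes τ⁻¹ _ z
  · ext1
    exact hx'


theorem result {c : Cofan (fun _ : G => U)} (hc : IsColimit c) {s t : c.pt ⟶ U}
    (hs : ∀ g, c.inj g ≫ s = 𝟙 U) (ht : ∀ g, c.inj g ≫ t = (ρ g).hom) (hfree : IsFree ρ)
    (hR : IsEtaleEqvRel s t) {k : Type u} [Field k] (σ : Spec (CommRingCat.of k) ⟶ S)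
    (ξ : (yon S).obj (Over.mk σ) ⟶ QuotSh.quot Scheme.fppfPrecoverage s t) :
    ∃ (k' : Type u) (_ : Field k') (_ : Algebra k k') (_ : FiniteDimensional k k') (_ : IsGalois k k')
      (H : Subgroup G) (_ : Finite H) (e : H ≃* (k' ≃ₐ[k] k')) (x' : sp σ k' ⟶ U),
      (∀ h : H, Spec.map (CommRingCat.ofHom (e h).symm.toRingEquiv.toRingHom) ≫ x'.left =
        x'.left ≫ (ρ (h : G)).hom.left) ∧
      (yon S).map x' ≫ K594.Quot.π s t = (yon S).map (spStr σ k') ≫ ξ := by
  obtain ⟨-, hπ, hπ'⟩ := K594.Bootstrap.quot_isAlgSpace hR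
  obtain ⟨P, s', fst, sq⟩ := hπ.1 ξ
  have i1 : Etale s'.left := hπ.2 _ _ _ sq
  have i2 : Surjective s'.left := hπ'.2 _ _ _ sq
  obtain ⟨p, -⟩ := i2.surj (⊥ : PrimeSpectrum k)
  have i3 : Nonempty P.left := ⟨p⟩
  obtain ⟨L, _, _, _, _, a, ha⟩ := GalPt.exists_galois_point k P.left s'.left
  let a' : sp σ L ⟶ P := Over.homMk a (by
    rw [← Over.w s', ← Category.assoc, ha]
    rfl)
  have ha' : a' ≫ s' = spStr σ L := by
    ext1
    exact ha
  obtain ⟨x, hx⟩ := (yon S).map_surjective ((yon S).map a' ≫ fst)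
  have hxπ : (yon S).map x ≫ K594.Quot.π s t = (yon S).map (spStr σ L) ≫ ξ := by
    rw [hx, Category.assoc, sq.w, ← Category.assoc, ← Functor.map_comp, ha']
  obtain ⟨γ, hγ⟩ := exists_hom hfree x (fun τ => exists_act hc hs ht hR.toIsEqvRel _ _ _ (by
    rw [Functor.map_comp, Category.assoc, hxπ, ← Category.assoc, ← Functor.map_comp, spMap_str]))
  obtain ⟨k', _, _, _, _, H, _, e, x', j, h1, h2⟩ := exists_galois_data x γ hγ
  refine ⟨k', _, _, inferInstance, inferInstance, H, inferInstance, e, x', h1, ?_⟩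
  apply hom_ext_cov' S (cov_spMap σ j)
  have e1 : (yon S).map (spMap σ j) ≫ (yon S).map x' ≫ K594.Quot.π s t =
      (yon S).map x ≫ K594.Quot.π s t := by
    rw [← h2, Functor.map_comp, Category.assoc]
  have e2 : (yon S).map (spMap σ j) ≫ (yon S).map (spStr σ k') ≫ ξ = (yon S).map (spStr σ L) ≫ ξ := by
    rw [← spMap_str σ j, Functor.map_comp, Category.assoc]
  rw [e1, e2, hxπ]

end K595.FreeAct
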