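import Groth.Agent.AlgSp.K595.RelRep
import Mathlib.CategoryTheory.Sites.Subcanonical
import Mathlib.CategoryTheory.Sites.Sheaf
/-!
# Presheaves relatively representable over a sheaf are sheaves
-/

open CategoryTheory CategoryTheory.Limits Opposite

namespace K595.PshRep

universe w v u

variable {C : Type u} [Category.{v} C]

/-- Sections of a represented fibre product. -/
theorem exists_section {F G : Cᵒᵖ ⥤ Type (max w v)} {a : F ⟶ G} {V T : C} {s : V ⟶ T}
    {fst : uliftYoneda.{w}.obj V ⟶ F} {y : uliftYoneda.{w}.obj T ⟶ G}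
    (sq : IsPullback fst (uliftYoneda.{w}.map s) a y) {T' : C} (x : F.obj (op T')) (g : T' ⟶ T)
    (h : a.app _ x = y.app _ ⟨g⟩) : ∃ v : T' ⟶ V, v ≫ s = g ∧ fst.app (op T') ⟨v⟩ = x := by
  have sq' := sq.map ((evaluation _ _).obj (op T'))
  obtain ⟨v, h1, h2⟩ := Types.exists_of_isPullback sq' x ⟨g⟩ h
  exact ⟨v.down, congrArg ULift.down h2, h1⟩

theorem section_ext {F G : Cᵒᵖ ⥤ Type (max w v)} {a : F ⟶ G} {V T : C} {s : V ⟶ T}
    {fst : uliftYoneda.{w}.obj V ⟶ F} {y : uliftYoneda.{w}.obj T ⟶ G}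
    (sq : IsPullback fst (uliftYoneda.{w}.map s) a y) {T' : C} {v v' : T' ⟶ V}
    (h1 : v ≫ s = v' ≫ s) (h2 : fst.app (op T') ⟨v⟩ = fst.app (op T') ⟨v'⟩) : v = v' := by
  have sq' := sq.map ((evaluation _ _).obj (op T'))
  have := Types.ext_of_isPullback sq' (x₁ := ⟨v⟩) (y₁ := ⟨v'⟩) h2 (congrArg ULift.up h1)
  exact congrArg ULift.down this

/-- A presheaf with a relatively representable map to a sheaf is a sheaf (for a subcanonical
topology). -/
theorem isSheaf_of_relativelyRepresentable (J : GrothendieckTopology C) [J.Subcanonical]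
    {F G : Cᵒᵖ ⥤ Type (max w v)} (a : F ⟶ G) (ha : uliftYoneda.{w}.relativelyRepresentable a)
    (hG : Presheaf.IsSheaf J G) : Presheaf.IsSheaf J F := by
  rw [isSheaf_iff_isSheaf_of_type] at hG ⊢
  have hy : ∀ V : C, Presieve.IsSheaf J (yoneda.obj V) := fun V =>
    GrothendieckTopology.Subcanonical.isSheaf_of_isRepresentable _
  intro T R hR
  -- separatedness
  have sep : ∀ x x' : F.obj (op T), (∀ ⦃Y : C⦄ (f : Y ⟶ T), R f → F.map f.op x = F.map f.op x') →
      x = x' := by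
    intro x x' hx
    have hyy : a.app _ x = a.app _ x' := by
      apply ((hG R hR).isSeparatedFor).ext
      intro Y f hf
      rw [← NatTrans.naturality_apply, ← NatTrans.naturality_apply, hx f hf]
    let y : uliftYoneda.{w}.obj T ⟶ G := uliftYonedaEquiv.symm (a.app _ x)
    have hy1 : ∀ {T'} (g : T' ⟶ T), y.app (op T') ⟨g⟩ = G.map g.op (a.app _ x) := fun g => rfl
    obtain ⟨V, s, fst, sq⟩ := ha y
    obtain ⟨v, hv1, hv2⟩ := exists_section sq x (𝟙 T) (by rw [hy1]; simp)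
    obtain ⟨v', hv1', hv2'⟩ := exists_section sq x' (𝟙 T) (by rw [hy1]; simp [hyy])
    have : v = v' := by
      apply ((hy V R hR).isSeparatedFor).ext
      intro Y f hf
      refine section_ext sq (by simp [hv1, hv1']) ?_
      have e1 := NatTrans.naturality_apply fst f.op (⟨v⟩ : ULift (T ⟶ V))
      have e2 := NatTrans.naturality_apply fst f.op (⟨v'⟩ : ULift (T ⟶ V))
      refine e1.trans (Eq.trans ?_ e2.symm)
      rw [hv2, hv2', hx f hf]
    rw [← hv2, ← hv2', this]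
  intro x hx
  have hex : ∃ t, x.IsAmalgamation t := by
    obtain ⟨y0, hy0, -⟩ := hG R hR (fun Y f hf => a.app _ (x f hf)) (by
      intro Y₁ Y₂ Z g₁ g₂ f₁ f₂ h₁ h₂ e
      have := hx g₁ g₂ h₁ h₂ e
      rw [← NatTrans.naturality_apply, ← NatTrans.naturality_apply, this])
    let y : uliftYoneda.{w}.obj T ⟶ G := uliftYonedaEquiv.symm y0
    have hy1 : ∀ {T'} (g : T' ⟶ T), y.app (op T') ⟨g⟩ = G.map g.op y0 := fun g => rfl
    obtain ⟨V, s, fst, sq⟩ := ha y
    have hsec : ∀ ⦃Y : C⦄ (f : Y ⟶ T) (hf : R f), ∃ v : Y ⟶ V, v ≫ s = f ∧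
        fst.app (op Y) ⟨v⟩ = x f hf := fun Y f hf =>
      exists_section sq (x f hf) f (by rw [hy1]; exact (hy0 f hf).symm)
    choose v hv1 hv2 using hsec
    obtain ⟨t, ht, -⟩ := hy V R hR (fun Y f hf => v f hf) (by
      intro Y₁ Y₂ Z g₁ g₂ f₁ f₂ h₁ h₂ e
      refine section_ext sq ?_ ?_
      · change (g₁ ≫ v f₁ h₁) ≫ s = (g₂ ≫ v f₂ h₂) ≫ s
        rw [Category.assoc, Category.assoc, hv1, hv1, e]
      · have e1 := NatTrans.naturality_apply fst g₁.op (⟨v f₁ h₁⟩ : ULift (Y₁ ⟶ V))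
        have e2 := NatTrans.naturality_apply fst g₂.op (⟨v f₂ h₂⟩ : ULift (Y₂ ⟶ V))
        refine e1.trans (Eq.trans ?_ e2.symm)
        rw [hv2, hv2]
        exact hx g₁ g₂ h₁ h₂ e)
    refine ⟨fst.app (op T) ⟨t⟩, fun Y f hf => ?_⟩
    have e1 := NatTrans.naturality_apply fst f.op (⟨t⟩ : ULift (T ⟶ V))
    refine e1.symm.trans ?_
    rw [← hv2 f hf]
    exact congrArg (fun z => fst.app (op Y) ⟨z⟩) (ht f hf)
  obtain ⟨t, ht⟩ := hex
  refine ⟨t, ht, fun t' ht' => sep _ _ fun Y f hf => ?_⟩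
  rw [ht' f hf, ht f hf]

end K595.PshRep
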