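import Groth.Agent.AlgSp.K595.DiagRel
import Groth.Agent.AlgSp.K595.DescInst
/-!
# Descent and locality of separation conditions

* `repWith_of_affine` : `RepWith P f` for `P` Zariski local on the target may be tested on affine schemes.
* `repWith_diagonal_iff_affine` : `RepWith P (diagonal f)` may be tested after base change to affine schemes.
* `repWith_diagonal_of_cover` : it descends along fppf covers.
-/

universe u

open CategoryTheory CategoryTheory.Limits AlgebraicGeometry Opposite AlgSp

namespace K595.SepDesc

variable {S : Scheme.{u}}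

/-- The affine pieces `T_i ⟶ T` over `S` of the affine cover of `T`. -/
noncomputable abbrev affPiece (T : Over S) (i : T.left.affineCover.I₀) : Over S :=
  Over.mk (T.left.affineCover.f i ≫ T.hom)

noncomputable abbrev affPieceι (T : Over S) (i : T.left.affineCover.I₀) : affPiece T i ⟶ T :=
  Over.homMk (T.left.affineCover.f i)

instance affPiece_isAffine (T : Over S) (i : T.left.affineCover.I₀) : IsAffine (affPiece T i).left :=
  inferInstanceAs (IsAffine (T.left.affineCover.X i))

/-- A Zariski local property of a morphism of schemes over `S`, tested on the affine pieces. -/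
theorem left_of_affPiece {P : MorphismProperty Scheme.{u}} [IsZariskiLocalAtTarget P]
    {V T : Over S} (s : V ⟶ T)
    (h : ∀ i, P (pullback.snd s (affPieceι T i)).left) : P s.left := by
  refine IsZariskiLocalAtTarget.of_openCover T.left.affineCover fun i => ?_
  have sq := (IsPullback.of_hasPullback s (affPieceι T i)).map (Over.forget S)
  have sq' : IsPullback (pullback.fst s.left (T.left.affineCover.f i))
      (pullback.snd s.left (T.left.affineCover.f i)) s.left (T.left.affineCover.f i) :=
    IsPullback.of_hasPullback _ _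
  have e := (sq'.isoIsPullback _ _ sq)
  have he : (sq'.isoIsPullback _ _ sq).hom ≫ (pullback.snd s (affPieceι T i)).left =
    pullback.snd s.left (T.left.affineCover.f i) := IsPullback.isoIsPullback_hom_snd _ _ sq' sq
  change P (pullback.snd s.left (T.left.affineCover.f i))
  rw [← he]
  exact (P.cancel_left_of_respectsIso _ _).2 (h i)

/-- `RepWith P f`, for `P` Zariski local on the target, may be tested on affine test schemes. -/
theorem repWith_of_affine {P : MorphismProperty Scheme.{u}} [IsZariskiLocalAtTarget P]
    {X Y : Sp S} {f : X ⟶ Y} (hf : Representable f)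
    (h : ∀ ⦃T V : Over S⦄, IsAffine T.left → ∀ (g : (yon S).obj T ⟶ Y) (fst : (yon S).obj V ⟶ X)
      (snd : V ⟶ T), IsPullback fst ((yon S).map snd) f g → P snd.left) : RepWith P f := by
  refine ⟨hf, fun T V g fst snd sq => left_of_affPiece snd fun i => ?_⟩
  exact h inferInstance _ _ _
    (((IsPullback.of_hasPullback snd (affPieceι T i)).map (yon S)).paste_horiz sq)

/-- The diagonal of `f` tested by base change. -/
theorem prop_of_diagonal_snd {P : MorphismProperty Scheme.{u}} {X Y Z : Sp S} {f : X ⟶ Y}
    {h : Z ⟶ Y} {Q : Sp S} {fst : Q ⟶ X} {snd : Q ⟶ Z} (sq : IsPullback fst snd f h)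
    (hsnd : RepWith P (pullback.diagonal snd)) {T V : Over S}
    (g : (yon S).obj T ⟶ pullback f f) (k : (yon S).obj T ⟶ Z)
    (hk : k ≫ h = g ≫ pullback.fst f f ≫ f) (fst₁ : (yon S).obj V ⟶ X)
    (snd₁ : V ⟶ T) (sq₁ : IsPullback fst₁ ((yon S).map snd₁) (pullback.diagonal f) g) :
    P snd₁.left := by
  let g' : (yon S).obj T ⟶ pullback snd snd :=
    pullback.lift (sq.lift (g ≫ pullback.fst f f) k (by rw [hk, Category.assoc]))
      (sq.lift (g ≫ pullback.snd f f) k (by rw [hk, Category.assoc, pullback.condition]))
      (by rw [sq.lift_snd, sq.lift_snd])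
  have dsq := RelRep.isPullback_diagonal sq
  have hg' : g' ≫ pullback.map snd snd f f fst fst h sq.w.symm sq.w.symm = g := by
    apply pullback.hom_ext
    · simp only [Category.assoc, pullback.map, pullback.lift_fst, g']
      rw [pullback.lift_fst_assoc, sq.lift_fst]
    · simp only [Category.assoc, pullback.map, pullback.lift_snd, g']
      rw [pullback.lift_snd_assoc, sq.lift_fst]
  refine hsnd.2 g' (dsq.lift fst₁ ((yon S).map snd₁ ≫ g') ?_) snd₁ ?_
  · rw [Category.assoc, hg', sq₁.w]
  · refine IsPullback.of_right (t := dsq) ?_ ?_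
    · rw [dsq.lift_fst, hg']; exact sq₁
    · rw [dsq.lift_snd]

/-- For `f` with representable diagonal, `RepWith P (diagonal f)` may be tested after base change to
affine schemes. -/
theorem repWith_diagonal_of_affine {P : MorphismProperty Scheme.{u}} [IsZariskiLocalAtTarget P]
    {X Y : Sp S} {f : X ⟶ Y} (hf : Representable (pullback.diagonal f))
    (h : ∀ (Z : Over S), IsAffine Z.left → ∀ (g : (yon S).obj Z ⟶ Y) (Q : Sp S)
        (fst : Q ⟶ X) (snd : Q ⟶ (yon S).obj Z), IsPullback fst snd f g →
        RepWith P (pullback.diagonal snd)) : RepWith P (pullback.diagonal f) := by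
  refine repWith_of_affine hf fun T V hT g fst₁ snd₁ sq₁ => ?_
  have sq : IsPullback (pullback.fst f (g ≫ pullback.fst f f ≫ f))
    (pullback.snd f (g ≫ pullback.fst f f ≫ f)) f (g ≫ pullback.fst f f ≫ f) :=
    IsPullback.of_hasPullback _ _
  exact prop_of_diagonal_snd sq (h T hT _ _ _ _ sq) g (𝟙 _) (Category.id_comp _) fst₁ snd₁ sq₁

/-- For `f` with representable diagonal, `RepWith P (diagonal f)` descends along covers. -/
theorem repWith_diagonal_of_cover {P Q : MorphismProperty Scheme.{u}} [P.IsStableUnderBaseChange]
    [P.DescendsAlong Q] [Q.IsStableUnderBaseChange]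
    {X Y Y' : Sp S} {f : X ⟶ Y} (hf : Representable (pullback.diagonal f)) {p : Y' ⟶ Y}
    (hp : RepWith Q p) {X' : Sp S} {fst : X' ⟶ X} {snd : X' ⟶ Y'} (sq : IsPullback fst snd f p)
    (h : RepWith P (pullback.diagonal snd)) : RepWith P (pullback.diagonal f) := by
  refine RepDesc.repWith_of_isPullback (Q := Q) (RelRep.isPullback_diagonal sq) hf ?_ h
  -- `X' ×_{Y'} X' ⟶ X ×_Y X` is a base change of `p`
  have h1 : IsPullback (pullback.map snd snd f f fst fst p sq.w.symm sq.w.symm)
      (pullback.fst snd snd ≫ snd) (pullback.fst f f ≫ f) p := by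
    refine ⟨⟨?_⟩, ⟨PullbackCone.IsLimit.mk _ (fun c => pullback.lift
      (sq.lift (c.fst ≫ pullback.fst f f) c.snd (by simpa using c.condition))
      (sq.lift (c.fst ≫ pullback.snd f f) c.snd
        (by rw [Category.assoc, ← pullback.condition]; simpa using c.condition))
      (by rw [sq.lift_snd, sq.lift_snd])) ?_ ?_ ?_⟩⟩
    · simp only [pullback.map, Category.assoc]
      rw [pullback.lift_fst_assoc, Category.assoc, sq.w]
    · intro c
      apply pullback.hom_ext
      · simp only [pullback.map, Category.assoc, pullback.lift_fst]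
        rw [pullback.lift_fst_assoc, sq.lift_fst]
      · simp only [pullback.map, Category.assoc, pullback.lift_snd]
        rw [pullback.lift_snd_assoc, sq.lift_fst]
    · intro c
      rw [pullback.lift_fst_assoc, sq.lift_snd]
    · intro c m h1 h2
      apply pullback.hom_ext
      · rw [pullback.lift_fst]
        apply sq.hom_ext
        · rw [sq.lift_fst, ← h1, Category.assoc, Category.assoc]
          erw [pullback.lift_fst]
        · rw [sq.lift_snd, Category.assoc, h2]
      · rw [pullback.lift_snd]
        apply sq.hom_ext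
        · rw [sq.lift_fst, ← h1, Category.assoc, Category.assoc]
          erw [pullback.lift_snd]
        · rw [sq.lift_snd, Category.assoc, ← pullback.condition, h2]
  exact (RepWith Q).of_isPullback h1.flip hp

set_option backward.isDefEq.respectTransparency.types false in
theorem isZariskiLocalAtTarget_quasiCompact : IsZariskiLocalAtTarget (@QuasiCompact : MorphismProperty Scheme.{u}) :=
  inferInstance

theorem isSeparatedMor_iff_affine {X Y : Sp S} (hX : IsAlgSpace X) (f : X ⟶ Y) :
    IsSeparatedMor f ↔
      ∀ (Z : Over S), IsAffine Z.left → ∀ (g : (yon S).obj Z ⟶ Y) (P : Sp S)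
        (fst : P ⟶ X) (snd : P ⟶ (yon S).obj Z), IsPullback fst snd f g → IsSeparatedMor snd :=
  ⟨fun h _ _ _ _ _ _ sq => DiagRel.isSeparatedMor_isStableUnderBaseChange.of_isPullback sq h,
    fun h => repWith_diagonal_of_affine (P := @IsClosedImmersion)
      (DiagRel.representable_diagonal hX f) h⟩

theorem isQuasiSeparatedMor_iff_affine {X Y : Sp S} (hX : IsAlgSpace X) (f : X ⟶ Y) :
    IsQuasiSeparatedMor f ↔
      ∀ (Z : Over S), IsAffine Z.left → ∀ (g : (yon S).obj Z ⟶ Y) (P : Sp S)
        (fst : P ⟶ X) (snd : P ⟶ (yon S).obj Z), IsPullback fst snd f g → IsQuasiSeparatedMor snd :=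
  have := isZariskiLocalAtTarget_quasiCompact.{u}
  ⟨fun h _ _ _ _ _ _ sq => DiagRel.isQuasiSeparatedMor_isStableUnderBaseChange.of_isPullback sq h,
    fun h => repWith_diagonal_of_affine (P := @QuasiCompact)
      (DiagRel.representable_diagonal hX f) h⟩

/-- Separatedness descends along fppf covers of the target. -/
theorem isSeparatedMor_of_cover {X Y Y' : Sp S} (hX : IsAlgSpace X) {f : X ⟶ Y} {p : Y' ⟶ Y}
    (hp : RepWith RepDesc.Fppf p) {X' : Sp S} {fst : X' ⟶ X} {snd : X' ⟶ Y'}
    (sq : IsPullback fst snd f p) (h : IsSeparatedMor snd) : IsSeparatedMor f := by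
  have h1 := DescInst.isClosedImmersion.{u}
  exact repWith_diagonal_of_cover (P := @IsClosedImmersion) (DiagRel.representable_diagonal hX f) hp sq h

/-- Quasi-separatedness descends along fppf covers of the target. -/
theorem isQuasiSeparatedMor_of_cover {X Y Y' : Sp S} (hX : IsAlgSpace X) {f : X ⟶ Y} {p : Y' ⟶ Y}
    (hp : RepWith RepDesc.Fppf p) {X' : Sp S} {fst : X' ⟶ X} {snd : X' ⟶ Y'}
    (sq : IsPullback fst snd f p) (h : IsQuasiSeparatedMor snd) : IsQuasiSeparatedMor f := by
  have h1 := DescInst.quasiCompact.{u}
  exact repWith_diagonal_of_cover (P := @QuasiCompact) (DiagRel.representable_diagonal hX f) hp sq h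

end K595.SepDesc
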