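import Mathlib.CategoryTheory.Sites.Over
import Mathlib.CategoryTheory.Sites.SubcanonicalOver
import Mathlib.CategoryTheory.Sites.Subcanonical
import Mathlib.CategoryTheory.Sites.CoverLifting
/-!
# Sheaves on the slice site: the extension functor `j_!` described on sections

For `g : S ⟶ S'` in a category `C` with a topology `J`, and a presheaf `F` on `Over S`, the presheaf
`ext g F` on `Over S'` has sections over `T` the pairs `(φ : T ⟶ (S, g), x ∈ F (T, φ))`.
It is a sheaf when `F` is.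
-/

open CategoryTheory Opposite

namespace K595.Slice

universe w v u

variable {C : Type u} [Category.{v} C] {S S' : C} {g : S ⟶ S'}

/-- `T` viewed over `S` through `φ`. -/
abbrev sl {T : Over S'} (φ : T ⟶ Over.mk g) : Over S := Over.mk φ.left

/-- `T` viewed over `S` and then over `S'` again is `T`. -/
def slIso {T : Over S'} (φ : T ⟶ Over.mk g) : (Over.map g).obj (sl φ) ≅ T :=
  Over.isoMk (Iso.refl _) (by simpa using (Over.w φ).symm)

@[simp] theorem slIso_hom_left {T : Over S'} (φ : T ⟶ Over.mk g) : (slIso φ).hom.left = 𝟙 _ := rfl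
@[simp] theorem slIso_inv_left {T : Over S'} (φ : T ⟶ Over.mk g) : (slIso φ).inv.left = 𝟙 _ := rfl

variable (g) in
/-- The canonical map `T ⟶ S` over `S'`. -/
def can (T : Over S) : (Over.map g).obj T ⟶ Over.mk g := Over.homMk T.hom

@[simp] theorem can_left (T : Over S) : (can g T).left = T.hom := rfl

/-- Functoriality of `sl`. -/
def slMap {T T₁ : Over S'} (f : T₁ ⟶ T) {φ : T ⟶ Over.mk g} {ψ : T₁ ⟶ Over.mk g} (h : f ≫ φ = ψ) :
    sl ψ ⟶ sl φ := Over.homMk f.left (by simp [← h])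

@[simp] theorem slMap_left {T T₁ : Over S'} (f : T₁ ⟶ T) {φ : T ⟶ Over.mk g} {ψ : T₁ ⟶ Over.mk g}
    (h : f ≫ φ = ψ) : (slMap f h).left = f.left := rfl

/-- `T` over `S` is `sl (can T)`. -/
def slCan (T : Over S) : sl (can g T) ≅ T := Over.isoMk (Iso.refl _)

@[simp] theorem slCan_hom_left (T : Over S) : (slCan (g := g) T).hom.left = 𝟙 _ := rfl
@[simp] theorem slCan_inv_left (T : Over S) : (slCan (g := g) T).inv.left = 𝟙 _ := rfl

variable (g) in
/-- The extension of a presheaf on `Over S` to `Over S'`. -/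
def ext (F : (Over S)ᵒᵖ ⥤ Type (max w v)) : (Over S')ᵒᵖ ⥤ Type (max w v) where
  obj T := Σ φ : T.unop ⟶ Over.mk g, F.obj (op (sl φ))
  map {T T₁} f := ↾fun p => ⟨f.unop ≫ p.1, F.map (slMap f.unop rfl).op p.2⟩
  map_id T := by
    ext ⟨φ, x⟩ : 3
    have h : 𝟙 T.unop ≫ φ = φ := Category.id_comp φ
    refine Sigma.ext h ?_
    have key : ∀ (ψ : T.unop ⟶ Over.mk g) (hψ : 𝟙 T.unop ≫ φ = ψ),
        F.map (slMap (𝟙 T.unop) hψ).op x ≍ x := by
      intro ψ hψ
      obtain rfl : φ = ψ := h.symm.trans hψ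
      have : slMap (𝟙 T.unop) hψ = 𝟙 _ := by ext; simp
      rw [this]
      simp
    exact key _ rfl
  map_comp {T T₁ T₂} f₁ f₂ := by
    ext ⟨φ, x⟩ : 3
    have h : (f₁ ≫ f₂).unop ≫ φ = f₂.unop ≫ f₁.unop ≫ φ := by simp
    refine Sigma.ext h ?_
    change F.map (slMap (f₁ ≫ f₂).unop rfl).op x ≍
      F.map (slMap f₂.unop rfl).op (F.map (slMap f₁.unop rfl).op x)
    rw [← Functor.map_comp_apply, ← op_comp]
    have key : ∀ (ψ : T₂.unop ⟶ Over.mk g) (hψ : (f₁ ≫ f₂).unop ≫ φ = ψ)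
        (hψ' : f₂.unop ≫ f₁.unop ≫ φ = ψ),
        F.map (slMap (f₁ ≫ f₂).unop hψ).op x ≍
          F.map (slMap f₂.unop hψ' ≫ slMap f₁.unop rfl).op x := by
      intro ψ hψ hψ'
      have : slMap (f₁ ≫ f₂).unop hψ = slMap f₂.unop hψ' ≫ slMap f₁.unop rfl := by ext; simp
      rw [this]
    have h1 := key _ rfl h.symm
    refine h1.trans ?_
    have key2 : ∀ (ψ ψ' : T₂.unop ⟶ Over.mk g) (hh : ψ = ψ') (hψ : f₂.unop ≫ f₁.unop ≫ φ = ψ)
        (hψ' : f₂.unop ≫ f₁.unop ≫ φ = ψ'),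
        F.map (slMap f₂.unop hψ ≫ slMap f₁.unop rfl).op x ≍
          F.map (slMap f₂.unop hψ' ≫ slMap f₁.unop rfl).op x := by
      intro ψ ψ' hh hψ hψ'
      subst hh; rfl
    exact key2 _ _ h h.symm rfl

/-- The section of `ext g F` given by a pair. -/
def sec {F : (Over S)ᵒᵖ ⥤ Type (max w v)} {T : Over S'} (φ : T ⟶ Over.mk g)
    (x : F.obj (op (sl φ))) : (ext g F).obj (op T) := ⟨φ, x⟩

/-- The first component of a section. -/
def fs {F : (Over S)ᵒᵖ ⥤ Type (max w v)} {T : Over S'} (p : (ext g F).obj (op T)) :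
    T ⟶ Over.mk g := Sigma.fst p

/-- The second component of a section. -/
def sn {F : (Over S)ᵒᵖ ⥤ Type (max w v)} {T : Over S'} (p : (ext g F).obj (op T)) :
    F.obj (op (sl (fs p))) := Sigma.snd p

theorem sec_eta {F : (Over S)ᵒᵖ ⥤ Type (max w v)} {T : Over S'} (p : (ext g F).obj (op T)) :
    sec (fs p) (sn p) = p := rfl

@[simp] theorem fs_sec {F : (Over S)ᵒᵖ ⥤ Type (max w v)} {T : Over S'} (φ : T ⟶ Over.mk g)
    (x : F.obj (op (sl φ))) : fs (sec φ x) = φ := rfl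

@[simp] theorem sn_sec {F : (Over S)ᵒᵖ ⥤ Type (max w v)} {T : Over S'} (φ : T ⟶ Over.mk g)
    (x : F.obj (op (sl φ))) : sn (sec φ x) = x := rfl

theorem ext_map_sec (F : (Over S)ᵒᵖ ⥤ Type (max w v)) {T T₁ : Over S'} (f : T₁ ⟶ T)
    (φ : T ⟶ Over.mk g) (x : F.obj (op (sl φ))) :
    (ext g F).map f.op (sec φ x) = sec (f ≫ φ) (F.map (slMap f rfl).op x) := rfl

theorem fs_map {F : (Over S)ᵒᵖ ⥤ Type (max w v)} {T T₁ : Over S'} (f : T₁ ⟶ T)
    (p : (ext g F).obj (op T)) : fs ((ext g F).map f.op p) = f ≫ fs p := rfl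

theorem sn_map {F : (Over S)ᵒᵖ ⥤ Type (max w v)} {T T₁ : Over S'} (f : T₁ ⟶ T)
    (p : (ext g F).obj (op T)) :
    sn ((ext g F).map f.op p) = F.map (slMap f (fs_map f p).symm).op (sn p) := rfl

/-- Extensionality for sections of `ext g F`. -/
theorem sec_ext {F : (Over S)ᵒᵖ ⥤ Type (max w v)} {T : Over S'} {p q : (ext g F).obj (op T)}
    (h : fs p = fs q)
    (h' : F.map (slMap (𝟙 T) ((Category.id_comp _).trans h)).op (sn p) = sn q) : p = q := by
  obtain ⟨φ, x⟩ := p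
  obtain ⟨ψ, y⟩ := q
  change φ = ψ at h
  subst h
  have : slMap (𝟙 T) (Category.id_comp φ) = 𝟙 _ := by ext; simp
  change F.map (slMap (𝟙 T) (Category.id_comp φ)).op x = y at h'
  rw [this] at h'
  simp only [op_id, Functor.map_id_apply] at h'
  rw [h']

theorem sec_sec_ext {F : (Over S)ᵒᵖ ⥤ Type (max w v)} {T : Over S'} {φ ψ : T ⟶ Over.mk g}
    {x : F.obj (op (sl φ))} {y : F.obj (op (sl ψ))} (h : φ = ψ)
    (h' : ∀ c : sl ψ ⟶ sl φ, c.left = 𝟙 _ → F.map c.op x = y) : sec φ x = sec ψ y :=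
  sec_ext h (h' _ rfl)

/-- Two restrictions of a section along morphisms with the same underlying morphism agree. -/
theorem map_congr_left (F : (Over S)ᵒᵖ ⥤ Type (max w v)) {W T : Over S} (x : F.obj (op T))
    {a b : W ⟶ T} (h : a.left = b.left) : F.map a.op x = F.map b.op x := by
  have : a = b := by ext; exact h
  rw [this]

/-- A section is determined by its first component and the second component restricted to any
isomorphic copy. -/
theorem sn_congr {F : (Over S)ᵒᵖ ⥤ Type (max w v)} {T : Over S'} {p q : (ext g F).obj (op T)}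
    (h : p = q) {W : Over S} (a : W ⟶ sl (fs p)) (b : W ⟶ sl (fs q)) (hab : a.left = b.left) :
    F.map a.op (sn p) = F.map b.op (sn q) := by
  subst h
  have : a = b := by ext; exact hab
  rw [this]

/-- Comparison of the second components of two sections with the same restriction. -/
theorem sn_congr_map {F : (Over S)ᵒᵖ ⥤ Type (max w v)} {T T' Z : Over S'} (f : Z ⟶ T) (f' : Z ⟶ T')
    {p : (ext g F).obj (op T)} {q : (ext g F).obj (op T')}
    (h : (ext g F).map f.op p = (ext g F).map f'.op q) {W : Over S} (a : W ⟶ sl (fs p))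
    (b : W ⟶ sl (fs q)) (c : W.left ⟶ Z.left) (ha : a.left = c ≫ f.left)
    (hb : b.left = c ≫ f'.left) : F.map a.op (sn p) = F.map b.op (sn q) := by
  let b' : W ⟶ sl (f' ≫ fs q) := Over.homMk c (by
    have := Over.w b
    rw [hb] at this
    simpa using this)
  let a' : W ⟶ sl (f ≫ fs p) := Over.homMk c (by
    have := Over.w a
    rw [ha] at this
    simpa using this)
  have e1 : a = a' ≫ slMap f rfl := by ext; simp [a', ha]
  have e2 : b = b' ≫ slMap f' rfl := by ext; simp [b', hb]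
  have e3 : F.map a.op (sn p) = F.map a'.op (F.map (slMap f rfl).op (sn p)) := by
    rw [e1, op_comp, Functor.map_comp_apply]
  have e4 : F.map b.op (sn q) = F.map b'.op (F.map (slMap f' rfl).op (sn q)) := by
    rw [e2, op_comp, Functor.map_comp_apply]
  rw [e3, e4]
  exact sn_congr h a' b' rfl

theorem sec_inj {F : (Over S)ᵒᵖ ⥤ Type (max w v)} {T : Over S'} {φ : T ⟶ Over.mk g}
    {x y : F.obj (op (sl φ))} (h : sec φ x = sec φ y) : x = y :=
  eq_of_heq (Sigma.mk.inj h).2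

/-- The functor `ext` on presheaves. -/
def extMap {F G : (Over S)ᵒᵖ ⥤ Type (max w v)} (α : F ⟶ G) : ext g F ⟶ ext g G where
  app T := ↾fun p => ⟨p.1, α.app _ p.2⟩
  naturality T T₁ f := by
    ext ⟨φ, x⟩ : 3
    change (⟨f.unop ≫ φ, α.app _ (F.map (slMap f.unop rfl).op x)⟩ : (ext g G).obj T₁) =
      ⟨f.unop ≫ φ, G.map (slMap f.unop rfl).op (α.app _ x)⟩
    rw [NatTrans.naturality_apply]

@[simp] theorem extMap_app_sec {F G : (Over S)ᵒᵖ ⥤ Type (max w v)} (α : F ⟶ G) {T : Over S'}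
    (φ : T ⟶ Over.mk g) (x : F.obj (op (sl φ))) :
    (extMap α).app (op T) (sec φ x) = sec φ (α.app _ x) := rfl

theorem extMap_id (F : (Over S)ᵒᵖ ⥤ Type (max w v)) : extMap (g := g) (𝟙 F) = 𝟙 _ := rfl

theorem extMap_comp {F G H : (Over S)ᵒᵖ ⥤ Type (max w v)} (α : F ⟶ G) (β : G ⟶ H) :
    extMap (g := g) (α ≫ β) = extMap α ≫ extMap β := rfl

/-- The projection to `h_S`. -/
def proj (F : (Over S)ᵒᵖ ⥤ Type (max w v)) : ext g F ⟶ uliftYoneda.{w}.obj (Over.mk g) where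
  app _ := ↾fun p => ⟨p.1⟩
  naturality _ _ _ := rfl

@[simp] theorem proj_app {F : (Over S)ᵒᵖ ⥤ Type (max w v)} {T : Over S'}
    (p : (ext g F).obj (op T)) : (proj F).app (op T) p = ⟨fs p⟩ := rfl

theorem extMap_proj {F G : (Over S)ᵒᵖ ⥤ Type (max w v)} (α : F ⟶ G) :
    extMap α ≫ proj (g := g) G = proj F := rfl

/-- Restriction of sections along `slMap`s. -/
theorem slMap_comp {T T₁ T₂ : Over S'} (f : T₁ ⟶ T) (f' : T₂ ⟶ T₁) {φ : T ⟶ Over.mk g}
    {ψ : T₁ ⟶ Over.mk g} {χ : T₂ ⟶ Over.mk g} (h : f ≫ φ = ψ) (h' : f' ≫ ψ = χ) :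
    slMap f' h' ≫ slMap f h = slMap (f' ≫ f) (by rw [Category.assoc, h, h']) := by
  ext; simp

variable (J : GrothendieckTopology C)

theorem isSheaf_ext [J.Subcanonical] {F : (Over S)ᵒᵖ ⥤ Type (max w v)}
    (hF : Presheaf.IsSheaf (J.over S) F) : Presheaf.IsSheaf (J.over S') (ext g F) := by
  rw [isSheaf_iff_isSheaf_of_type] at hF ⊢
  have hy : Presieve.IsSheaf (J.over S') (yoneda.obj (Over.mk g)) :=
    GrothendieckTopology.Subcanonical.isSheaf_of_isRepresentable _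
  intro T R hR
  -- the induced covering sieve over `S`
  let Rφ (φ : T ⟶ Over.mk g) : Sieve (sl φ) := (R.pullback (slIso φ).hom).functorPullback (Over.map g)
  have hRφ (φ : T ⟶ Over.mk g) : Rφ φ ∈ (J.over S) (sl φ) :=
    (Over.map g).cover_lift (J.over S) (J.over S') ((J.over S').pullback_stable _ hR)
  have sep : ∀ p q : (ext g F).obj (op T),
      (∀ ⦃Y : Over S'⦄ (f : Y ⟶ T), R f → (ext g F).map f.op p = (ext g F).map f.op q) → p = q := by
    intro p q hpq
    have h1 : fs p = fs q := by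
      apply (hy R hR).isSeparatedFor.ext
      intro Y f hf
      exact congrArg fs (hpq f hf)
    refine sec_ext h1 ?_
    apply (hF _ (hRφ (fs q))).isSeparatedFor.ext
    intro W h hh
    have h2 := hpq _ hh
    refine (Functor.map_comp_apply F _ _ _).symm.trans ?_
    rw [← op_comp]
    exact sn_congr_map _ _ h2 _ _ (𝟙 _) (by simp) (by simp)
  intro x hx
  obtain ⟨φ, hφ, -⟩ := hy R hR (fun Y f hf => fs (x f hf)) (by
    intro Y₁ Y₂ Z g₁ g₂ f₁ f₂ h₁ h₂ e
    exact congrArg fs (hx g₁ g₂ h₁ h₂ e))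
  have hφ' : ∀ ⦃Y : Over S'⦄ (f : Y ⟶ T) (hf : R f), f ≫ φ = fs (x f hf) := fun Y f hf => hφ f hf
  -- the sections over `sl φ`
  have hk : ∀ ⦃W : Over S⦄ (h : W ⟶ sl φ) (hh : Rφ φ h),
      (fs (x ((Over.map g).map h ≫ (slIso φ).hom) hh)).left = W.hom := by
    intro W h hh
    have := hφ' _ hh
    rw [← this]
    simpa using Over.w h
  let eW : ∀ ⦃W : Over S⦄ (h : W ⟶ sl φ) (hh : Rφ φ h),
      W ⟶ sl (fs (x ((Over.map g).map h ≫ (slIso φ).hom) hh)) := fun W h hh =>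
    Over.homMk (𝟙 _) (by simpa using hk h hh)
  let y : Presieve.FamilyOfElements F (Rφ φ).arrows := fun W h hh =>
    F.map (eW h hh).op (sn (x ((Over.map g).map h ≫ (slIso φ).hom) hh))
  -- comparison of second components
  have hcomp : ∀ ⦃Y₁ Y₂ Z : Over S'⦄ (g₁ : Z ⟶ Y₁) (g₂ : Z ⟶ Y₂) (f₁ : Y₁ ⟶ T) (f₂ : Y₂ ⟶ T)
      (h₁ : R f₁) (h₂ : R f₂) (_ : g₁ ≫ f₁ = g₂ ≫ f₂) {W : Over S}
      (a : W ⟶ sl (fs (x f₁ h₁))) (b : W ⟶ sl (fs (x f₂ h₂)))
      (c : W.left ⟶ Z.left) (_ : a.left = c ≫ g₁.left) (_ : b.left = c ≫ g₂.left),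
      F.map a.op (sn (x f₁ h₁)) = F.map b.op (sn (x f₂ h₂)) := by
    intro Y₁ Y₂ Z g₁ g₂ f₁ f₂ h₁ h₂ e W a b c ha hb
    exact sn_congr_map _ _ (hx g₁ g₂ h₁ h₂ e) _ _ c ha hb
  have hyc : y.Compatible := by
    intro W₁ W₂ Z k₁ k₂ h₁ h₂ hh₁ hh₂ e
    change F.map k₁.op (F.map (eW h₁ hh₁).op _) = F.map k₂.op (F.map (eW h₂ hh₂).op _)
    rw [← Functor.map_comp_apply, ← Functor.map_comp_apply, ← op_comp, ← op_comp]
    refine hcomp ((Over.map g).map k₁) ((Over.map g).map k₂) _ _ hh₁ hh₂ ?_ _ _ (𝟙 _) ?_ ?_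
    · rw [← Category.assoc, ← Category.assoc, ← Functor.map_comp, ← Functor.map_comp, e]
    · simp [eW]
    · simp [eW]
  obtain ⟨z, hz, -⟩ := hF _ (hRφ φ) y hyc
  have hexist : x.IsAmalgamation (sec φ z) := by
    intro Y f hf
    rw [ext_map_sec]
    have hψ : f ≫ φ = fs (x f hf) := hφ' f hf
    refine sec_ext hψ ?_
    -- `sl ψ ⟶ sl φ` lies in `Rφ φ`
    let k : sl (fs (x f hf)) ⟶ sl φ := slMap f hψ
    have hk' : (Over.map g).map k ≫ (slIso φ).hom = (slIso (fs (x f hf))).hom ≫ f := by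
      ext; simp [k]
    have hkR : Rφ φ k := by
      change R ((Over.map g).map k ≫ (slIso φ).hom)
      rw [hk']
      exact R.downward_closed hf _
    have h6 : F.map k.op z = F.map (eW k hkR).op _ := hz k hkR
    have h7 := hcomp (𝟙 _) ((slIso (fs (x f hf))).hom) _ f hkR hf (by rw [Category.id_comp, hk'])
      (eW k hkR) (𝟙 _) (𝟙 _) (by simp [eW]) (by simp)
    have e1 : slMap (𝟙 Y) ((Category.id_comp _).trans hψ) ≫ slMap f rfl = k := by
      ext; simp [k]
    have h8 : F.map (slMap (𝟙 Y) ((Category.id_comp _).trans hψ)).op (F.map (slMap f rfl).op z) =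
        F.map k.op z := by
      rw [← e1, op_comp, Functor.map_comp_apply]
    refine h8.trans (h6.trans (h7.trans ?_))
    simp
  exact ⟨_, hexist, fun t' ht' => sep _ _ fun Y f hf => (ht' f hf).trans (hexist f hf).symm⟩

end K595.Slice
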