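import Groth.Agent.AlgSp.K595.SliceE
import Mathlib.CategoryTheory.Adjunction.Basic
/-!
# Sheaves on the slice site: the adjunction and the equivalence with the slice category

* `Slice.extSh g J : Sheaf (J.over S) _ ⥤ Sheaf (J.over S') _`
* `Slice.adj : extSh g J ⊣ J.overMapPullback _ g`
* `Slice.toOver g J : Sheaf (J.over S) _ ⥤ Over (h_S)` is an equivalence.
-/

open CategoryTheory Opposite

namespace K595.Slice

universe w v u

variable {C : Type u} [Category.{v} C] {S S' : C} (g : S ⟶ S')
  (J : GrothendieckTopology C) [J.Subcanonical]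

/-- The extension functor on sheaves. -/
def extSh : Sheaf (J.over S) (Type (max w v)) ⥤ Sheaf (J.over S') (Type (max w v)) where
  obj F := ⟨ext g F.obj, isSheaf_ext J F.property⟩
  map f := ObjectProperty.homMk (extMap f.hom)

variable {g J}

/-- The unit on presheaves. -/
def unitP (F : (Over S)ᵒᵖ ⥤ Type (max w v)) : F ⟶ (Over.map g).op ⋙ ext g F where
  app T := ↾fun x => sec (can g T.unop) (F.map (slCan T.unop).hom.op x)
  naturality T T₁ h := by
    ext x : 3
    change sec (can g T₁.unop) (F.map (slCan T₁.unop).hom.op (F.map h x)) =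
      sec ((Over.map g).map h.unop ≫ can g T.unop)
        (F.map (slMap ((Over.map g).map h.unop) rfl).op (F.map (slCan T.unop).hom.op x))
    refine sec_sec_ext ?_ fun c hc => ?_
    · ext
      simp
    · rw [← Functor.map_comp_apply, ← Functor.map_comp_apply, ← Functor.map_comp_apply]
      exact map_congr_left F x (a := (c ≫ (slCan T₁.unop).hom) ≫ h.unop)
        (b := slMap ((Over.map g).map h.unop) rfl ≫ (slCan T.unop).hom) (by simp [hc])

@[simp] theorem unitP_app (F : (Over S)ᵒᵖ ⥤ Type (max w v)) {T : Over S} (x : F.obj (op T)) :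
    (unitP (g := g) F).app (op T) x = sec (can g T) (F.map (slCan T).hom.op x) := rfl

/-- The key formula: restricting the section `(φ, x)` to `sl φ` gives the unit at `x`. -/
theorem ext_map_slIso (F : (Over S)ᵒᵖ ⥤ Type (max w v)) {T : Over S'} (φ : T ⟶ Over.mk g)
    (x : F.obj (op (sl φ))) :
    (ext g F).map (slIso φ).hom.op (sec φ x) = (unitP F).app (op (sl φ)) x := by
  refine sec_sec_ext (φ := (slIso φ).hom ≫ φ) (ψ := can g (sl φ)) ?_ fun c hc => ?_
  · ext; simp
  · change F.map c.op (F.map (slMap (slIso φ).hom rfl).op x) = F.map (slCan (sl φ)).hom.op x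
    rw [← Functor.map_comp_apply, ← op_comp]
    exact map_congr_left F x (by simp [hc])

/-- Any section of `ext g F` is the restriction of the unit. -/
theorem sec_eq_map_unitP (F : (Over S)ᵒᵖ ⥤ Type (max w v)) {T : Over S'} (φ : T ⟶ Over.mk g)
    (x : F.obj (op (sl φ))) :
    (ext g F).map (slIso φ).inv.op ((unitP F).app (op (sl φ)) x) = sec φ x := by
  rw [← ext_map_slIso, ← Functor.map_comp_apply, ← op_comp, Iso.inv_hom_id, op_id,
    Functor.map_id_apply]

/-- Natural transformations out of `ext g F` are determined by their composite with the unit. -/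
theorem hom_ext_unitP {F : (Over S)ᵒᵖ ⥤ Type (max w v)} {G : (Over S')ᵒᵖ ⥤ Type (max w v)}
    {α β : ext g F ⟶ G} (h : ∀ (T : Over S) (x : F.obj (op T)),
      α.app _ ((unitP F).app (op T) x) = β.app _ ((unitP F).app (op T) x)) : α = β := by
  apply NatTrans.ext
  funext T
  refine ConcreteCategory.hom_ext _ _ fun p => ?_
  induction T using Opposite.rec with
  | op T =>
  obtain ⟨φ, x, rfl⟩ : ∃ (φ : T ⟶ Over.mk g) (x : F.obj (op (sl φ))), p = sec φ x := ⟨_, _, rfl⟩
  rw [← sec_eq_map_unitP, NatTrans.naturality_apply, NatTrans.naturality_apply]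
  exact congrArg _ (h _ _)

/-- The transpose of `β : F ⟶ G|_S`. -/
def transp {F : (Over S)ᵒᵖ ⥤ Type (max w v)} {G : (Over S')ᵒᵖ ⥤ Type (max w v)}
    (β : F ⟶ (Over.map g).op ⋙ G) : ext g F ⟶ G where
  app T := ↾fun p => G.map (slIso (fs p)).inv.op (β.app (op (sl (fs p))) (sn p))
  naturality T T₁ f := by
    refine ConcreteCategory.hom_ext _ _ fun p => ?_
    change G.map (slIso (f.unop ≫ fs p)).inv.op (β.app (op (sl (f.unop ≫ fs p)))
      (F.map (slMap f.unop rfl).op (sn p))) =
      G.map f (G.map (slIso (fs p)).inv.op (β.app (op (sl (fs p))) (sn p)))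
    rw [NatTrans.naturality_apply]
    change G.map _ (G.map ((Over.map g).map (slMap f.unop rfl)).op _) = _
    have e : (slIso (f.unop ≫ fs p)).inv ≫ (Over.map g).map (slMap f.unop rfl) =
      f.unop ≫ (slIso (fs p)).inv := by ext; simp
    have e' := congrArg (fun c => G.map (Quiver.Hom.op c) (β.app (op (sl (fs p))) (sn p))) e
    simp only [op_comp, Functor.map_comp_apply] at e'
    exact e'

@[simp] theorem transp_app {F : (Over S)ᵒᵖ ⥤ Type (max w v)} {G : (Over S')ᵒᵖ ⥤ Type (max w v)}
    (β : F ⟶ (Over.map g).op ⋙ G) {T : Over S'} (φ : T ⟶ Over.mk g) (x : F.obj (op (sl φ))) :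
    (transp β).app (op T) (sec φ x) = G.map (slIso φ).inv.op (β.app (op (sl φ)) x) := rfl

theorem transp_unitP {F : (Over S)ᵒᵖ ⥤ Type (max w v)} {G : (Over S')ᵒᵖ ⥤ Type (max w v)}
    (β : F ⟶ (Over.map g).op ⋙ G) {T : Over S} (x : F.obj (op T)) :
    (transp β).app _ ((unitP F).app (op T) x) = β.app (op T) x := by
  rw [unitP_app]
  refine (transp_app β _ _).trans ?_
  rw [NatTrans.naturality_apply]
  change G.map _ (G.map ((Over.map g).map (slCan T).hom).op _) = _
  have e : (slIso (can g T)).inv ≫ (Over.map g).map (slCan T).hom = 𝟙 _ := by ext; simp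
  have e' := congrArg (fun c => G.map (Quiver.Hom.op c) (β.app (op T) x)) e
  simp only [op_comp, op_id, Functor.map_comp_apply, Functor.map_id_apply] at e'
  exact e'

variable (g J)

/-- The adjunction `j_! ⊣ j⁻¹`. -/
def adj : extSh.{w} g J ⊣ J.overMapPullback (Type (max w v)) g :=
  Adjunction.mkOfHomEquiv
    { homEquiv F G :=
        { toFun α := ObjectProperty.homMk (unitP F.obj ≫ (Over.map g).op.whiskerLeft α.hom)
          invFun β := ObjectProperty.homMk (transp β.hom)
          left_inv α := by
            apply ObjectProperty.hom_ext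
            refine hom_ext_unitP fun T x => ?_
            exact transp_unitP _ _
          right_inv β := by
            apply ObjectProperty.hom_ext
            apply NatTrans.ext
            funext T
            ext x
            exact transp_unitP β.hom x }
      homEquiv_naturality_left_symm := by
        intro F F' G f β
        apply ObjectProperty.hom_ext
        refine hom_ext_unitP fun T x => ?_
        refine (transp_unitP _ _).trans ?_
        change _ = (transp β.hom).app _ ((extMap f.hom).app _ ((unitP F.obj).app (op T) x))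
        have : (extMap f.hom).app _ ((unitP (g := g) F.obj).app (op T) x) =
            (unitP (g := g) F'.obj).app (op T) (f.hom.app (op T) x) := by
          rw [unitP_app, unitP_app]
          change sec _ (f.hom.app _ (F.obj.map (slCan T).hom.op x)) = _
          rw [NatTrans.naturality_apply]
        rw [this]
        exact (transp_unitP β.hom _).symm
      homEquiv_naturality_right := by
        intro F G G' α f
        rfl }

/-- The sheaf `h_S` on `Over S'`. -/
abbrev base : Sheaf (J.over S') (Type (max w v)) := (J.over S').uliftYoneda.{w}.obj (Over.mk g)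

/-- The functor `F ↦ (j_! F ⟶ h_S)`. -/
def toOver : Sheaf (J.over S) (Type (max w v)) ⥤ Over (base.{w} g J) where
  obj F := Over.mk (Y := (extSh g J).obj F) (ObjectProperty.homMk (proj F.obj))
  map f := Over.homMk ((extSh g J).map f) (by
    apply ObjectProperty.hom_ext
    exact extMap_proj f.hom)

/-- `toOver` followed by the forgetful functor is `extSh`. -/
def toOverForget : toOver.{w} g J ⋙ Over.forget _ ≅ extSh g J := Iso.refl _

variable {g J}

theorem extMap_unitP {F F' : (Over S)ᵒᵖ ⥤ Type (max w v)} (f : F ⟶ F') {T : Over S}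
    (x : F.obj (op T)) : (extMap f).app _ ((unitP (g := g) F).app (op T) x) =
      (unitP (g := g) F').app (op T) (f.app (op T) x) := by
  rw [unitP_app, unitP_app]
  change sec _ (f.app _ (F.map (slCan T).hom.op x)) = _
  rw [NatTrans.naturality_apply]

theorem unitP_inj (F : (Over S)ᵒᵖ ⥤ Type (max w v)) {T : Over S} {x y : F.obj (op T)}
    (h : (unitP (g := g) F).app (op T) x = (unitP (g := g) F).app (op T) y) : x = y := by
  rw [unitP_app, unitP_app] at h
  have h1 := congrArg (F.map (slCan (g := g) T).inv.op) (sec_inj h)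
  rw [← Functor.map_comp_apply, ← Functor.map_comp_apply, ← op_comp, Iso.inv_hom_id] at h1
  simpa using h1

/-- A section of `ext g F` over `g_! T` with first component `can` comes from a section of `F`. -/
theorem exists_unitP (F : (Over S)ᵒᵖ ⥤ Type (max w v)) {T : Over S}
    (p : (ext g F).obj (op ((Over.map g).obj T))) (hp : fs p = can g T) :
    ∃ x : F.obj (op T), (unitP (g := g) F).app (op T) x = p := by
  let a : T ⟶ sl (fs p) := Over.homMk (𝟙 _) (by rw [hp]; simp)
  refine ⟨F.map a.op (sn p), ?_⟩
  rw [unitP_app]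
  refine (sec_sec_ext (φ := can g T) (ψ := fs p) (y := sn p) hp.symm fun c hc => ?_)
  rw [← Functor.map_comp_apply, ← Functor.map_comp_apply, ← op_comp, ← op_comp]
  have : (c ≫ (slCan (g := g) T).hom) ≫ a = 𝟙 _ := by ext; simp [hc, a]
  rw [Category.assoc] at this
  refine (map_congr_left F (sn p) (b := 𝟙 _) (by simp [hc, a])).trans ?_
  simp

theorem fs_unitP (F : (Over S)ᵒᵖ ⥤ Type (max w v)) {T : Over S} (x : F.obj (op T)) :
    fs ((unitP (g := g) F).app (op T) x) = can g T := rfl

variable (g J)

instance toOver_faithful : (toOver.{w} g J).Faithful where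
  map_injective {F G} α β h := by
    have h1 : extMap (g := g) α.hom = extMap β.hom :=
      congrArg (fun t : (toOver.{w} g J).obj F ⟶ (toOver.{w} g J).obj G => t.left.hom) h
    apply ObjectProperty.hom_ext
    apply NatTrans.ext
    funext T
    refine ConcreteCategory.hom_ext _ _ fun x => ?_
    induction T using Opposite.rec with
    | op T =>
    apply unitP_inj (g := g)
    rw [← extMap_unitP, ← extMap_unitP, h1]

instance toOver_full : (toOver.{w} g J).Full where
  map_surjective {F G} γ := by
    have hγ : γ.left.hom ≫ proj G.obj = proj F.obj := congrArg (·.hom) (Over.w γ)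
    have hfs : ∀ {T : Over S'} (p : (ext g F.obj).obj (op T)),
        fs (g := g) (F := G.obj) (γ.left.hom.app (op T) p) = fs p := by
      intro T p
      have h1 := ConcreteCategory.congr_hom (NatTrans.congr_app hγ (op T)) p
      exact congrArg ULift.down h1
    have hex : ∀ (T : Over S) (x : F.obj.obj (op T)), ∃ y : G.obj.obj (op T),
        (unitP (g := g) G.obj).app (op T) y = γ.left.hom.app _ ((unitP F.obj).app (op T) x) :=
      fun T x => exists_unitP G.obj _ ((hfs _).trans (fs_unitP _ _))
    choose β hβ using hex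
    let b : F.obj ⟶ G.obj :=
      { app T := ↾(β T.unop)
        naturality T T₁ h := by
          refine ConcreteCategory.hom_ext _ _ fun x => ?_
          change β T₁.unop (F.obj.map h x) = G.obj.map h (β T.unop x)
          apply unitP_inj (g := g)
          have e1 := NatTrans.naturality_apply (unitP (g := g) G.obj) h (β T.unop x)
          have e2 := NatTrans.naturality_apply (unitP (g := g) F.obj) h x
          refine (hβ _ _).trans (Eq.trans ?_ e1.symm)
          refine (congrArg (fun t => γ.left.hom.app _ t) e2).trans ?_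
          have e3 := NatTrans.naturality_apply γ.left.hom ((Over.map g).op.map h)
            ((unitP (g := g) F.obj).app T x)
          refine e3.trans ?_
          exact congrArg (fun t => (ext g G.obj).map ((Over.map g).op.map h) t) (hβ T.unop x).symm }
    refine ⟨ObjectProperty.homMk b, ?_⟩
    apply Over.OverMorphism.ext
    apply ObjectProperty.hom_ext
    refine hom_ext_unitP fun T x => ?_
    exact (extMap_unitP b x).trans (hβ T x)

/-- The restriction to `Over S` of a sheaf over `h_S`: the fibre over the canonical section. -/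
def fibP (A : Over (base.{w} g J)) : (Over S)ᵒᵖ ⥤ Type (max w v) where
  obj T := {x : A.left.obj.obj (op ((Over.map g).obj T.unop)) //
    A.hom.hom.app _ x = ⟨can g T.unop⟩}
  map {T T₁} h := ↾fun x => ⟨A.left.obj.map ((Over.map g).map h.unop).op x.1, by
    rw [NatTrans.naturality_apply, x.2]
    apply ULift.ext
    apply Over.OverMorphism.ext
    exact Over.w h.unop⟩
  map_id T := by
    refine ConcreteCategory.hom_ext _ _ fun x => ?_
    apply Subtype.ext
    change A.left.obj.map ((Over.map g).map (𝟙 _)).op x.1 = x.1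
    rw [CategoryTheory.Functor.map_id, op_id, Functor.map_id_apply]
  map_comp {T T₁ T₂} h h' := by
    refine ConcreteCategory.hom_ext _ _ fun x => ?_
    apply Subtype.ext
    change A.left.obj.map ((Over.map g).map (h'.unop ≫ h.unop)).op x.1 =
      A.left.obj.map ((Over.map g).map h'.unop).op (A.left.obj.map ((Over.map g).map h.unop).op x.1)
    rw [CategoryTheory.Functor.map_comp, op_comp, Functor.map_comp_apply]

theorem isSheaf_fibP (A : Over (base.{w} g J)) : Presheaf.IsSheaf (J.over S) (fibP g J A) := by
  rw [isSheaf_iff_isSheaf_of_type]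
  have hA := ((J.overMapPullback (Type (max w v)) g).obj A.left).property
  have hB := ((J.overMapPullback (Type (max w v)) g).obj (base.{w} g J)).property
  rw [isSheaf_iff_isSheaf_of_type] at hA hB
  intro T R hR x hx
  obtain ⟨t, ht, htu⟩ := hA R hR (fun Y f hf => (x f hf).1) (by
    intro Y₁ Y₂ Z g₁ g₂ f₁ f₂ h₁ h₂ e
    exact congrArg Subtype.val (hx g₁ g₂ h₁ h₂ e))
  have ht' : A.hom.hom.app _ t = ⟨can g T⟩ := by
    apply (hB R hR).isSeparatedFor.ext
    intro Y f hf
    have e1 := NatTrans.naturality_apply A.hom.hom ((Over.map g).map f).op t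
    refine e1.symm.trans ?_
    have e2 : A.left.obj.map ((Over.map g).map f).op t = (x f hf).1 := ht f hf
    rw [e2, (x f hf).2]
    apply ULift.ext
    apply Over.OverMorphism.ext
    exact (Over.w f).symm
  refine ⟨⟨t, ht'⟩, fun Y f hf => Subtype.ext (ht f hf), fun t₂ ht₂ => Subtype.ext (htu t₂.1 ?_)⟩
  intro Y f hf
  exact congrArg Subtype.val (ht₂ f hf)

/-- The comparison isomorphism `ext g (fibP A) ≅ A`. -/
def fibHom (A : Over (base.{w} g J)) : ext g (fibP g J A) ⟶ A.left.obj :=
  transp { app T := ↾fun x => x.1
           naturality _ _ _ := rfl }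

theorem fibHom_app_sec (A : Over (base.{w} g J)) {T : Over S'} (φ : T ⟶ Over.mk g)
    (x : (fibP g J A).obj (op (sl φ))) :
    (fibHom g J A).app (op T) (sec φ x) = A.left.obj.map (slIso φ).inv.op x.1 := rfl

theorem fibHom_w (A : Over (base.{w} g J)) : fibHom g J A ≫ A.hom.hom = proj (fibP g J A) := by
  refine hom_ext_unitP fun T x => ?_
  change A.hom.hom.app _ ((fibHom g J A).app _ ((unitP (fibP g J A)).app (op T) x)) = ⟨can g T⟩
  have : (fibHom g J A).app _ ((unitP (fibP g J A)).app (op T) x) = x.1 := transp_unitP _ _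
  rw [this]
  exact x.2

theorem fibHom_bijective (A : Over (base.{w} g J)) (T : Over S') :
    Function.Bijective ((fibHom g J A).app (op T)) := by
  constructor
  · intro p q hpq
    obtain ⟨φ, x, rfl⟩ : ∃ (φ : T ⟶ Over.mk g) (x : (fibP g J A).obj (op (sl φ))), p = sec φ x :=
      ⟨_, _, rfl⟩
    obtain ⟨ψ, y, rfl⟩ : ∃ (φ : T ⟶ Over.mk g) (x : (fibP g J A).obj (op (sl φ))), q = sec φ x :=
      ⟨_, _, rfl⟩
    have h1 := congrArg (fun t => A.hom.hom.app _ t) hpq
    have h2 := fun p => congrArg (fun t => t.app (op T) p) (fibHom_w g J A)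
    have h3 : φ = ψ := by
      have := (h2 (sec φ x)).symm.trans (h1.trans (h2 (sec ψ y)))
      exact congrArg ULift.down this
    subst h3
    rw [fibHom_app_sec, fibHom_app_sec] at hpq
    have h4 : x = y := by
      apply Subtype.ext
      have h5 := congrArg (A.left.obj.map (slIso φ).hom.op) hpq
      rw [← Functor.map_comp_apply, ← Functor.map_comp_apply, ← op_comp, Iso.hom_inv_id] at h5
      simpa using h5
    rw [h4]
  · intro a
    let φ : T ⟶ Over.mk g := (A.hom.hom.app _ a).down
    have hφ : A.hom.hom.app _ a = ⟨φ⟩ := rfl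
    have hx : A.hom.hom.app _ (A.left.obj.map (slIso φ).hom.op a) = ⟨can g (sl φ)⟩ := by
      rw [NatTrans.naturality_apply, hφ]
      apply ULift.ext
      apply Over.OverMorphism.ext
      change (slIso φ).hom.left ≫ φ.left = φ.left
      simp
    refine ⟨sec φ ⟨A.left.obj.map (slIso φ).hom.op a, hx⟩, ?_⟩
    change A.left.obj.map (slIso φ).inv.op (A.left.obj.map (slIso φ).hom.op a) = a
    rw [← Functor.map_comp_apply, ← op_comp, Iso.inv_hom_id, op_id, Functor.map_id_apply]

instance toOver_essSurj : (toOver.{w} g J).EssSurj where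
  mem_essImage A := by
    refine ⟨⟨fibP g J A, isSheaf_fibP g J A⟩, ⟨?_⟩⟩
    have h1 : IsIso (fibHom g J A) := by
      rw [NatTrans.isIso_iff_isIso_app]
      intro T
      rw [isIso_iff_bijective]
      exact fibHom_bijective g J A T.unop
    let e : ext g (fibP g J A) ≅ A.left.obj := asIso (fibHom g J A)
    let e' : (⟨ext g (fibP g J A), isSheaf_ext J (isSheaf_fibP g J A)⟩ :
        Sheaf (J.over S') (Type (max w v))) ≅ A.left :=
      (fullyFaithfulSheafToPresheaf (J.over S') _).preimageIso e
    refine Over.isoMk e' ?_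
    apply ObjectProperty.hom_ext
    exact fibHom_w g J A

instance toOver_isEquivalence : (toOver.{w} g J).IsEquivalence where

end K595.Slice
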